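import Cfsg.Agent.Lib.H4.Feit.Restrict

/-!
# Abelian T.I. subgroup with Frobenius normalizer: counting the irreducible characters
-/

set_option autoImplicit false
set_option linter.unusedSectionVars false

namespace Cfsg.Agent.Lib.H4.Feit

open Cfsg Cfsg.Agent.Lib.L0 Cfsg.Agent.Lib.L0.FrobTI Cfsg.Agent.Lib.H8
open scoped ComplexConjugate Classical

variable {G : Type*} [Group G] [Fintype G]

/-- Parseval for class functions -/
theorem classInner_self_eq_sum [Fintype (IrrCharacter G)] (F : G → ℂ) (hF : IsClassFunction G F) :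
    classInner F F = ∑ ψ : IrrCharacter G,
      classInner F (ψ : G → ℂ) * conj (classInner F (ψ : G → ℂ)) := by
  have hexp := Cfsg.Agent.Lib.H24.classFunction_expansion F hF
  conv_lhs => rw [hexp]
  rw [classInner_sum_right]
  refine Finset.sum_congr rfl fun ψ _ => ?_
  rw [classInner_smul_right, ← hexp, mul_comm]

/-- a character containing an irreducible character of the same degree is equal to it -/
theorem eq_of_degree_eq [Fintype (IrrCharacter G)] {F ζ : G → ℂ} (hF : IsCharacter G F)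
    (hζ : IsIrrCharacter G ζ) (h1 : classInner F ζ ≠ 0) (hdeg : F 1 = ζ 1) : F = ζ := by
  have hcf := isClassFunction_of_isCharacter hF
  have hexp := Cfsg.Agent.Lib.H24.classFunction_expansion F hcf
  choose c hc using fun η : IrrCharacter G => classInner_char_irr_nat hF η.2
  choose d hdpos hd using fun η : IrrCharacter G => Cfsg.Agent.Lib.H24.irr_one_eq η
  have hF1 : F 1 = ∑ η : IrrCharacter G, ((c η * d η : ℕ) : ℂ) := by
    have := congrFun hexp 1
    rw [Finset.sum_apply] at this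
    rw [this]
    refine Finset.sum_congr rfl fun η _ => ?_
    rw [Pi.smul_apply, smul_eq_mul, hc, hd]
    push_cast
    ring
  set ζ' : IrrCharacter G := ⟨ζ, hζ⟩ with hζ'
  have hcζ : c ζ' ≠ 0 := by
    intro h
    apply h1
    have := hc ζ'
    rw [h] at this
    simpa using this
  have hsum : ∑ η : IrrCharacter G, c η * d η = d ζ' := by
    have h2 : F 1 = ((d ζ' : ℕ) : ℂ) := by rw [hdeg]; exact hd ζ'
    rw [hF1, ← Nat.cast_sum] at h2
    exact_mod_cast h2
  have hzero : ∀ η : IrrCharacter G, η ≠ ζ' → c η = 0 := by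
    intro η hη
    by_contra hne
    have h3 : c ζ' * d ζ' + c η * d η ≤ ∑ η : IrrCharacter G, c η * d η := by
      have hsub : ({ζ', η} : Finset (IrrCharacter G)) ⊆ Finset.univ := Finset.subset_univ _
      have := Finset.sum_le_sum_of_subset (f := fun η : IrrCharacter G => c η * d η) hsub
      rw [Finset.sum_pair (Ne.symm hη)] at this
      exact this
    have h4 : 1 ≤ c η * d η := Nat.mul_pos (Nat.pos_of_ne_zero hne) (hdpos η)
    have h5 : d ζ' ≤ c ζ' * d ζ' := Nat.le_mul_of_pos_left _ (Nat.pos_of_ne_zero hcζ)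
    omega
  have hone : c ζ' = 1 := by
    have h3 : ∑ η : IrrCharacter G, c η * d η = c ζ' * d ζ' := by
      rw [Finset.sum_eq_single ζ']
      · intro η _ hη
        rw [hzero η hη, zero_mul]
      · intro h
        exact absurd (Finset.mem_univ _) h
    rw [h3] at hsum
    have := hdpos ζ'
    nlinarith
  rw [hexp, Finset.sum_eq_single ζ']
  · rw [hc, hone]
    simp [hζ']
  · intro η _ hη
    rw [hc, hzero η hη]
    simp
  · intro h
    exact absurd (Finset.mem_univ _) h

variable {K : Subgroup G} [Fintype (nz K)]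

/-- hypotheses on the characters induced from the characters of the normalizer trivial on `K` -/
structure IndHyp (K : Subgroup G) [Fintype (nz K)] (χ₀ : G → ℂ) : Prop where
  deg : χ₀ 1 = (Nat.card K : ℂ)
  cases : ∀ (η : IrrCharacter (nz K)), ¬ Rel K (η : nz K → ℂ) → ∀ ψ : IrrCharacter G,
    classInner (fun x : nz K => (ψ : G → ℂ) x) (η : nz K → ℂ) ≠ 0 →
      (ψ : G → ℂ) = 1 ∨ (ψ : G → ℂ) = χ₀ ∨ (ψ : G → ℂ) 1 = (Nat.card K : ℂ) + 1

theorem card_K_eq (h : FrobTI K) (hab : ∀ a ∈ K, ∀ b ∈ K, a * b = b * a) :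
    Nat.card (RelT K) * (K.subgroupOf (nz K)).index + 1 = Nat.card K := by
  have : Fintype (RelT K) := Fintype.ofFinite _
  rw [Nat.card_eq_fintype_card]
  exact rel_count h hab

namespace Exc

variable (D : Exc K)

/-- the inner products of `Ψ` with the irreducible characters -/
theorem Psi_inner_irr (ζ₀ ζ : RelT K) (ψ : IrrCharacter G) :
    classInner (D.Psi ζ₀) (ψ : G → ℂ) =
      classInner (piFun K) (fun x : nz K => (ψ : G → ℂ) x) -
        classInner (ζ.1 : nz K → ℂ) (fun x : nz K => (ψ : G → ℂ) x) +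
          D.ε * (if D.f ζ = ψ then 1 else 0) := by
  rw [D.Psi_eq ζ₀ ζ]
  unfold Psi
  rw [classInner_add_left, D.Phi_inner ζ _ (isClassFunction_of_isCharacter (isCharacter_of_irr ψ.2)),
    classInner_smul_left]
  congr 2
  split_ifs with hψ
  · rw [← hψ]
    exact irr_classInner_self (D.f ζ).2
  · exact irr_classInner_ne (D.f ζ).2 ψ.2 (fun h => hψ (Subtype.ext h))

variable (h : FrobTI K) (hab : ∀ a ∈ K, ∀ b ∈ K, a * b = b * a) {χ₀ : G → ℂ}
  (hI : IndHyp K χ₀) (ht : 2 ≤ Nat.card (RelT K))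

include h hab hI ht in
/-- a non-exceptional irreducible character orthogonal to `Ψ` is `χ₀` -/
theorem eq_chi0 (ψ : IrrCharacter G) (hψ : ∀ ξ : RelT K, D.f ξ ≠ ψ) (ζ₀ : RelT K)
    (h0 : classInner (D.Psi ζ₀) (ψ : G → ℂ) = 0) : (ψ : G → ℂ) = χ₀ := by
  have : Fintype (IrrCharacter (nz K)) := Fintype.ofFinite _
  have : Fintype (RelT K) := Fintype.ofFinite _
  have hFchar : IsCharacter (nz K) (fun x : nz K => (ψ : G → ℂ) x) :=
    isCharacter_restrict _ (isCharacter_of_irr ψ.2)
  obtain ⟨p, hp⟩ := classInner_char_char_nat (piFun_isCharacter K) hFchar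
  have hm : ∀ ζ : RelT K, classInner (ζ.1 : nz K → ℂ) (fun x : nz K => (ψ : G → ℂ) x) = p := by
    intro ζ
    have := D.Psi_inner_irr ζ₀ ζ ψ
    rw [h0, if_neg (hψ ζ), hp] at this
    linear_combination this
  have hdeg := char_expand h hab _ hFchar
  rw [hp, Finset.sum_congr rfl fun ζ _ => hm ζ, Finset.sum_const, Finset.card_univ,
    nsmul_eq_mul] at hdeg
  have hK := card_K_eq h hab
  rw [Nat.card_eq_fintype_card (α := RelT K)] at hK
  have hdeg' : (ψ : G → ℂ) 1 = ((p * Nat.card K : ℕ) : ℂ) := by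
    change (ψ : G → ℂ) 1 = _ at hdeg
    rw [hdeg, ← hK]
    push_cast
    ring
  have hp0 : p ≠ 0 := by
    rintro rfl
    have := Cfsg.Agent.Lib.H24.irr_one_ne_zero ψ
    rw [hdeg'] at this
    simp at this
  have hp' : classInner (piFun K) (fun x : nz K => (ψ : G → ℂ) x) ≠ 0 := by
    rw [hp]
    exact_mod_cast hp0
  obtain ⟨η, hη, hne⟩ := exists_nonrel h _ hFchar hp'
  rcases hI.cases η hη ψ hne with h1 | h1 | h1
  · exfalso
    have := D.Psi_one ht ζ₀
    rw [← h1, h0] at this
    exact zero_ne_one this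
  · exact h1
  · exfalso
    rw [hdeg'] at h1
    have h2 : p * Nat.card K = Nat.card K + 1 := by exact_mod_cast h1
    have h3 : 2 ≤ Nat.card K := by
      have : 1 ≤ Fintype.card (RelT K) * (K.subgroupOf (nz K)).index := by
        apply Nat.mul_pos
        · rw [← Nat.card_eq_fintype_card]; omega
        · exact Nat.pos_of_ne_zero Subgroup.index_ne_zero_of_finite
      omega
    have h4 : Nat.card K ∣ 1 := by
      have : Nat.card K ∣ Nat.card K + 1 := ⟨p, by rw [← h2]; ring⟩
      exact (Nat.dvd_add_right (dvd_refl _)).1 this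
    have := Nat.le_of_dvd one_pos h4
    omega

include h hab hI ht in
/-- the number of irreducible characters -/
theorem card_irr_le (ζ₀ : RelT K) (c εz : ℤ)
    (hc : classInner (D.Psi ζ₀) (D.f ζ₀ : G → ℂ) = c) (hεz : (εz : ℂ) = D.ε) :
    (Nat.card (IrrCharacter G) : ℤ) + Nat.card (RelT K) * c ^ 2 ≤
      Nat.card (RelT K) + 1 + (K.subgroupOf (nz K)).index + 2 * εz * c := by
  have : Fintype (IrrCharacter G) := Fintype.ofFinite _
  have : Fintype (RelT K) := Fintype.ofFinite _
  have hgen := D.Psi_genChar ζ₀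
  choose b hb using fun ψ : IrrCharacter G => genChar_classInner_irr_int hgen ψ.2
  have hnorm := D.Psi_norm h hab ζ₀ c hc
  rw [classInner_self_eq_sum _ (isClassFunction_of_isGeneralizedCharacter hgen)] at hnorm
  have hnormZ : ∑ ψ : IrrCharacter G, b ψ ^ 2 =
      ((K.subgroupOf (nz K)).index : ℤ) + 2 * εz * c := by
    have : ((∑ ψ : IrrCharacter G, b ψ ^ 2 : ℤ) : ℂ) =
        ((((K.subgroupOf (nz K)).index : ℤ) + 2 * εz * c : ℤ) : ℂ) := by
      push_cast
      rw [hεz, ← hnorm]
      refine Finset.sum_congr rfl fun ψ _ => ?_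
      rw [hb, map_intCast]
      ring
    exact_mod_cast this
  -- the exceptional characters
  set E : Finset (IrrCharacter G) := Finset.univ.image D.f with hE
  have hEcard : E.card = Fintype.card (RelT K) := by
    rw [hE, Finset.card_image_of_injective _ D.hinj, Finset.card_univ]
  have hbE : ∀ ψ ∈ E, b ψ = c := by
    intro ψ hψ
    rw [hE, Finset.mem_image] at hψ
    obtain ⟨ζ, -, rfl⟩ := hψ
    have := hb (D.f ζ)
    rw [D.Psi_f h hab ζ₀ ζ, hc] at this
    exact_mod_cast this.symm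
  have hsplit := Finset.sum_add_sum_compl E (fun ψ => b ψ ^ 2)
  have hsumE : ∑ ψ ∈ E, b ψ ^ 2 = (Fintype.card (RelT K) : ℤ) * c ^ 2 := by
    rw [Finset.sum_congr rfl fun ψ hψ => by rw [hbE ψ hψ], Finset.sum_const, hEcard]
    simp
  -- the others
  have hcompl : ((Eᶜ).card : ℤ) ≤ ∑ ψ ∈ Eᶜ, b ψ ^ 2 + 1 := by
    by_cases hex : ∃ ψ₀ ∈ Eᶜ, (ψ₀ : G → ℂ) = χ₀
    · obtain ⟨ψ₀, hψ₀, hψ₀eq⟩ := hex
      have h1 : ∀ ψ ∈ (Eᶜ).erase ψ₀, (1 : ℤ) ≤ b ψ ^ 2 := by
        intro ψ hψ
        rw [Finset.mem_erase, Finset.mem_compl] at hψ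
        have hne : b ψ ≠ 0 := by
          intro hzero
          have h0 : classInner (D.Psi ζ₀) (ψ : G → ℂ) = 0 := by rw [hb, hzero]; simp
          have hnotE : ∀ ξ : RelT K, D.f ξ ≠ ψ := by
            intro ξ hξ
            apply hψ.2
            rw [hE, Finset.mem_image]
            exact ⟨ξ, Finset.mem_univ _, hξ⟩
          have := D.eq_chi0 h hab hI ht ψ hnotE ζ₀ h0
          exact hψ.1 (Subtype.ext (this.trans hψ₀eq.symm))
        have : 0 < b ψ ^ 2 := by positivity
        omega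
      have h2 := Finset.sum_le_sum h1
      rw [Finset.sum_const, nsmul_eq_mul, mul_one, Finset.card_erase_of_mem hψ₀] at h2
      have h3 : ∑ ψ ∈ (Eᶜ).erase ψ₀, b ψ ^ 2 ≤ ∑ ψ ∈ Eᶜ, b ψ ^ 2 :=
        Finset.sum_le_sum_of_subset_of_nonneg (Finset.erase_subset _ _)
          (fun ψ _ _ => by positivity)
      have h4 : 1 ≤ (Eᶜ).card := Finset.card_pos.2 ⟨ψ₀, hψ₀⟩
      push_cast [Nat.cast_sub h4] at h2
      linarith
    · push Not at hex
      have h1 : ∀ ψ ∈ Eᶜ, (1 : ℤ) ≤ b ψ ^ 2 := by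
        intro ψ hψ
        have hψ' := hψ
        rw [Finset.mem_compl] at hψ
        have hne : b ψ ≠ 0 := by
          intro hzero
          have h0 : classInner (D.Psi ζ₀) (ψ : G → ℂ) = 0 := by rw [hb, hzero]; simp
          have hnotE : ∀ ξ : RelT K, D.f ξ ≠ ψ := by
            intro ξ hξ
            apply hψ
            rw [hE, Finset.mem_image]
            exact ⟨ξ, Finset.mem_univ _, hξ⟩
          exact hex ψ hψ' (D.eq_chi0 h hab hI ht ψ hnotE ζ₀ h0)
        have : 0 < b ψ ^ 2 := by positivity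
        omega
      have h2 := Finset.sum_le_sum h1
      rw [Finset.sum_const, nsmul_eq_mul, mul_one] at h2
      linarith
  have hcardc : (Eᶜ).card = Fintype.card (IrrCharacter G) - Fintype.card (RelT K) := by
    rw [Finset.card_compl, hEcard]
  have hle : Fintype.card (RelT K) ≤ Fintype.card (IrrCharacter G) := by
    rw [← hEcard]
    exact Finset.card_le_univ _
  rw [Nat.card_eq_fintype_card, Nat.card_eq_fintype_card]
  rw [hcardc] at hcompl
  push_cast [Nat.cast_sub hle] at hcompl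
  linarith

theorem exists_epsZ : ∃ εz : ℤ, (εz = 1 ∨ εz = -1) ∧ (εz : ℂ) = D.ε := by
  rcases D.hε with h1 | h1
  · exact ⟨1, Or.inl rfl, by simp [h1]⟩
  · exact ⟨-1, Or.inr rfl, by simp [h1]⟩

include h hab hI ht in
/-- if `Ψ` is orthogonal to the exceptional characters, these restrict irreducibly to the
normalizer -/
theorem restrict_eq (ζ₀ : RelT K) (hc : classInner (D.Psi ζ₀) (D.f ζ₀ : G → ℂ) = 0)
    (he : 2 ≤ (K.subgroupOf (nz K)).index) (ζ : RelT K) :
    D.ε = 1 ∧ (fun x : nz K => (D.f ζ : G → ℂ) x) = (ζ.1 : nz K → ℂ) := by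
  have : Fintype (IrrCharacter (nz K)) := Fintype.ofFinite _
  have : Fintype (RelT K) := Fintype.ofFinite _
  have hFchar : IsCharacter (nz K) (fun x : nz K => (D.f ζ : G → ℂ) x) :=
    isCharacter_restrict _ (isCharacter_of_irr (D.f ζ).2)
  obtain ⟨p, hp⟩ := classInner_char_char_nat (piFun_isCharacter K) hFchar
  have hX0 : classInner (D.Psi ζ₀) (D.f ζ : G → ℂ) = 0 := by rw [D.Psi_f h hab ζ₀ ζ, hc]
  have hm : ∀ ξ : RelT K, classInner (ξ.1 : nz K → ℂ) (fun x : nz K => (D.f ζ : G → ℂ) x) =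
      p + D.ε * (if ξ = ζ then 1 else 0) := by
    intro ξ
    have := D.Psi_inner_irr ζ₀ ξ (D.f ζ)
    rw [hX0, hp] at this
    have hiff : (D.f ξ = D.f ζ) ↔ ξ = ζ := ⟨fun h => D.hinj h, fun h => by rw [h]⟩
    simp only [hiff] at this
    linear_combination this
  have hdeg := char_expand h hab _ hFchar
  change (D.f ζ : G → ℂ) 1 = _ at hdeg
  rw [hp, Finset.sum_congr rfl fun ξ _ => hm ξ, Finset.sum_add_distrib, Finset.sum_const,
    ← Finset.mul_sum, Finset.sum_ite_eq' Finset.univ ζ, if_pos (Finset.mem_univ _),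
    Finset.card_univ, nsmul_eq_mul] at hdeg
  have hK := card_K_eq h hab
  rw [Nat.card_eq_fintype_card (α := RelT K)] at hK
  have ht' := ht
  rw [Nat.card_eq_fintype_card (α := RelT K)] at ht'
  obtain ⟨εz, hεz, hεzc⟩ := D.exists_epsZ
  have hdeg' : (D.f ζ : G → ℂ) 1 = (((p : ℤ) * (Nat.card K : ℤ) +
      εz * ((K.subgroupOf (nz K)).index : ℤ) : ℤ) : ℂ) := by
    rw [hdeg, ← hK]
    push_cast
    rw [hεzc]
    ring
  obtain ⟨mζ, hmζ⟩ := classInner_irr_char_nat hFchar ζ.1.2
  by_cases hp0 : p = 0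
  · have h1 : (mζ : ℂ) = D.ε := by
      rw [← hmζ, hm ζ, if_pos rfl, hp0]
      simp
    rcases D.hε with h2 | h2
    · refine ⟨h2, ?_⟩
      apply eq_of_degree_eq hFchar ζ.1.2
      · rw [← classInner_conj_symm, hm ζ, if_pos rfl, hp0, h2]
        simp
      · change (D.f ζ : G → ℂ) 1 = _
        rw [hdeg, hp0, h2, h.rel_degree hab ζ.1.2 ζ.2]
        simp
    · exfalso
      rw [h2] at h1
      have h3 : ((mζ + 1 : ℕ) : ℂ) = 0 := by
        push_cast
        rw [h1]
        ring
      have : mζ + 1 = 0 := by exact_mod_cast h3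
      omega
  · exfalso
    have hp' : classInner (piFun K) (fun x : nz K => (D.f ζ : G → ℂ) x) ≠ 0 := by
      rw [hp]
      exact_mod_cast hp0
    obtain ⟨η, hη, hne⟩ := exists_nonrel h _ hFchar hp'
    have hp1 : 1 ≤ p := Nat.pos_of_ne_zero hp0
    have hk2 : 2 * (K.subgroupOf (nz K)).index + 1 ≤ Nat.card K := by
      have : 2 * (K.subgroupOf (nz K)).index ≤
          Fintype.card (RelT K) * (K.subgroupOf (nz K)).index := Nat.mul_le_mul_right _ ht'
      omega
    obtain ⟨e, he'⟩ : ∃ e : ℕ, e = (K.subgroupOf (nz K)).index := ⟨_, rfl⟩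
    obtain ⟨k, hk⟩ : ∃ k : ℕ, k = Nat.card K := ⟨_, rfl⟩
    rw [← he', ← hk] at hdeg' hk2
    rw [← he'] at he
    have hp1' : (1 : ℤ) ≤ p := by exact_mod_cast hp1
    have hk2' : (2 : ℤ) * e + 1 ≤ k := by exact_mod_cast hk2
    have he2 : (2 : ℤ) ≤ e := by exact_mod_cast he
    have hpk : (k : ℤ) ≤ p * k := by nlinarith
    have hpk2 : 2 ≤ p → (2 : ℤ) * k ≤ p * k := by
      intro h2
      have : (2 : ℤ) ≤ p := by exact_mod_cast h2
      nlinarith
    rcases hI.cases η hη (D.f ζ) hne with h1 | h1 | h1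
    · have := D.Psi_one ht ζ₀
      rw [← h1, hX0] at this
      exact zero_ne_one this
    · rw [h1, hI.deg, ← hk] at hdeg'
      have h3 : (k : ℤ) = p * k + εz * e := by exact_mod_cast hdeg'
      rcases hεz with h2 | h2
      · rw [h2] at h3
        linarith
      · rw [h2] at h3
        rcases Nat.eq_or_lt_of_le hp1 with h4 | h4
        · rw [← h4] at h3
          push_cast at h3
          linarith
        · have := hpk2 h4
          linarith
    · rw [h1, ← hk] at hdeg'
      have h3 : (k : ℤ) + 1 = p * k + εz * e := by exact_mod_cast hdeg'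
      rcases hεz with h2 | h2
      · rw [h2] at h3
        linarith
      · rw [h2] at h3
        rcases Nat.eq_or_lt_of_le hp1 with h4 | h4
        · rw [← h4] at h3
          push_cast at h3
          linarith
        · have := hpk2 h4
          linarith

end Exc

end Cfsg.Agent.Lib.H4.Feit
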