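import Mathlib
import Cfsg.Agent.Lib.H2.ClassCard

/-!
# Counting conjugacy classes inside a conjugation invariant set; products of two involutions
-/

set_option autoImplicit false
set_option linter.unusedSectionVars false

namespace Cfsg.Agent.Lib.H4.Feit

open scoped Classical

variable {G : Type*} [Group G] [Fintype G]

theorem card_class_mul (x : G) :
    (Finset.univ.filter fun y : G => ConjClasses.mk y = ConjClasses.mk x).card *
      Nat.card (Subgroup.centralizer ({x} : Set G)) = Nat.card G := by
  have h := Cfsg.Agent.Lib.H2.ncard_conj_mul_card_centralizer x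
  rw [← h]
  congr 1
  rw [Set.ncard_eq_toFinset_card']
  congr 1
  ext y
  simp only [Finset.mem_filter, Finset.mem_univ, true_and, Set.mem_toFinset, Set.mem_ofPred_eq,
    ConjClasses.mk_eq_mk_iff_isConj]
  exact ⟨fun h => h.symm, fun h => h.symm⟩

/-- the sum of the centralizer orders over a conjugation invariant set counts its classes -/
theorem sum_card_centralizer_filter (p : G → Prop) (hp : ∀ g x : G, p x → p (g * x * g⁻¹)) :
    ∑ x ∈ Finset.univ.filter p, Nat.card (Subgroup.centralizer ({x} : Set G)) =
      Nat.card {C : ConjClasses G // ∀ g : G, ConjClasses.mk g = C → p g} * Nat.card G := by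
  have hp' : ∀ x y : G, ConjClasses.mk x = ConjClasses.mk y → p x → p y := by
    intro x y hxy hx
    rw [ConjClasses.mk_eq_mk_iff_isConj, isConj_iff] at hxy
    obtain ⟨c, rfl⟩ := hxy
    exact hp c x hx
  rw [← Finset.sum_fiberwise (Finset.univ.filter p) ConjClasses.mk]
  have h1 : ∀ C : ConjClasses G,
      ∑ x ∈ (Finset.univ.filter p).filter (fun x => ConjClasses.mk x = C),
        Nat.card (Subgroup.centralizer ({x} : Set G)) =
      if (∀ g : G, ConjClasses.mk g = C → p g) then Nat.card G else 0 := by
    intro C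
    obtain ⟨x₀, rfl⟩ := ConjClasses.exists_rep C
    by_cases hx₀ : p x₀
    · have hall : ∀ g : G, ConjClasses.mk g = ConjClasses.mk x₀ → p g :=
        fun g hg => hp' x₀ g hg.symm hx₀
      rw [if_pos hall]
      have h2 : (Finset.univ.filter p).filter (fun x => ConjClasses.mk x = ConjClasses.mk x₀) =
          Finset.univ.filter fun y : G => ConjClasses.mk y = ConjClasses.mk x₀ := by
        ext y
        simp only [Finset.mem_filter, Finset.mem_univ, true_and]
        exact ⟨fun h => h.2, fun h => ⟨hall y h, h⟩⟩
      rw [h2]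
      set cls := Finset.univ.filter fun y : G => ConjClasses.mk y = ConjClasses.mk x₀ with hcls
      have hpos : 0 < cls.card := Finset.card_pos.2 ⟨x₀, by simp [hcls]⟩
      have h3 : ∀ x ∈ cls, cls.card * Nat.card (Subgroup.centralizer ({x} : Set G)) = Nat.card G := by
        intro x hx
        have hx' : ConjClasses.mk x = ConjClasses.mk x₀ := by simpa [hcls] using hx
        rw [← card_class_mul x, hcls, hx']
      apply Nat.eq_of_mul_eq_mul_left hpos
      rw [Finset.mul_sum, Finset.sum_congr rfl h3, Finset.sum_const, smul_eq_mul]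
    · have hnall : ¬ ∀ g : G, ConjClasses.mk g = ConjClasses.mk x₀ → p g := fun h => hx₀ (h x₀ rfl)
      rw [if_neg hnall]
      apply Finset.sum_eq_zero
      intro x hx
      simp only [Finset.mem_filter, Finset.mem_univ, true_and] at hx
      exact absurd (hp' x x₀ hx.2 hx.1) hx₀
  rw [Finset.sum_congr rfl fun C _ => h1 C, ← Finset.sum_filter, Finset.sum_const, smul_eq_mul,
    Nat.card_eq_fintype_card (α := {C : ConjClasses G // _}), Fintype.card_subtype]

/-- the number of ways of writing `z` as a product of two involutions -/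
noncomputable def rInv (z : G) : ℕ :=
  (Finset.univ.filter fun x : G => orderOf x = 2 ∧ orderOf (x⁻¹ * z) = 2).card

theorem inv_eq_self_of_orderOf_two {x : G} (hx : orderOf x = 2) : x⁻¹ = x := by
  have hxx : x * x = 1 := by rw [← pow_two, ← hx]; exact pow_orderOf_eq_one x
  exact inv_eq_of_mul_eq_one_left hxx

theorem rInv_le (z : G) : rInv z ≤ Nat.card (Subgroup.centralizer ({z} : Set G)) := by
  unfold rInv
  by_cases hne : (Finset.univ.filter fun x : G => orderOf x = 2 ∧ orderOf (x⁻¹ * z) = 2).Nonempty
  · obtain ⟨x₀, hx₀⟩ := hne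
    simp only [Finset.mem_filter, Finset.mem_univ, true_and] at hx₀
    have hinv : ∀ x : G, orderOf x = 2 → orderOf (x⁻¹ * z) = 2 → x * z * x⁻¹ = z⁻¹ := by
      intro x hx hy
      have h1 := inv_eq_self_of_orderOf_two hx
      have h2 := inv_eq_self_of_orderOf_two hy
      rw [mul_inv_rev, inv_inv] at h2
      -- z⁻¹ * x = x⁻¹ * z
      have hxx : x * x = 1 := by rw [← pow_two, ← hx]; exact pow_orderOf_eq_one x
      calc x * z * x⁻¹ = x * (x * (x⁻¹ * z)) * x⁻¹ := by group
        _ = x * (x * (z⁻¹ * x)) * x⁻¹ := by rw [h2]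
        _ = (x * x) * z⁻¹ := by group
        _ = z⁻¹ := by rw [hxx, one_mul]
    rw [Nat.card_eq_fintype_card, ← Finset.card_univ]
    have hmem : ∀ x ∈ Finset.univ.filter fun x : G => orderOf x = 2 ∧ orderOf (x⁻¹ * z) = 2,
        x₀⁻¹ * x ∈ Subgroup.centralizer ({z} : Set G) := by
      intro x hx
      simp only [Finset.mem_filter, Finset.mem_univ, true_and] at hx
      rw [Subgroup.mem_centralizer_singleton_iff]
      have e1 := hinv x hx.1 hx.2
      have e2 := hinv x₀ hx₀.1 hx₀.2
      have e3 : x * z = z⁻¹ * x := by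
        have := congrArg (· * x) e1
        simpa using this
      have e4 : x₀⁻¹ * z⁻¹ = z * x₀⁻¹ := by
        have := congrArg (x₀⁻¹ * ·) e2
        simp only [← mul_assoc, inv_mul_cancel, one_mul] at this
        exact this.symm
      calc x₀⁻¹ * x * z = x₀⁻¹ * (x * z) := by group
        _ = x₀⁻¹ * (z⁻¹ * x) := by rw [e3]
        _ = (x₀⁻¹ * z⁻¹) * x := by group
        _ = z * x₀⁻¹ * x := by rw [e4]
        _ = z * (x₀⁻¹ * x) := by group
    let f : G → Subgroup.centralizer ({z} : Set G) := fun x =>
      if hx : x ∈ Finset.univ.filter fun x : G => orderOf x = 2 ∧ orderOf (x⁻¹ * z) = 2 then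
        ⟨x₀⁻¹ * x, hmem x hx⟩ else 1
    refine Finset.card_le_card_of_injOn f (fun _ _ => Finset.mem_coe.2 (Finset.mem_univ _)) ?_
    intro x hx y hy hxy
    simp only [f, dif_pos (Finset.mem_coe.1 hx), dif_pos (Finset.mem_coe.1 hy)] at hxy
    have := congrArg Subtype.val hxy
    exact mul_left_cancel this
  · rw [Finset.not_nonempty_iff_eq_empty] at hne
    rw [hne, Finset.card_empty]
    exact Nat.zero_le _

theorem sum_rInv_filter (p : G → Prop) :
    ∑ z ∈ Finset.univ.filter p, rInv z =
      ∑ x ∈ Finset.univ.filter (fun x : G => orderOf x = 2),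
        (Finset.univ.filter fun y : G => orderOf y = 2 ∧ p (x * y)).card := by
  unfold rInv
  simp_rw [Finset.card_filter]
  rw [Finset.sum_filter, Finset.sum_filter]
  have h1 : ∀ z : G, (if p z then ∑ x : G, (if orderOf x = 2 ∧ orderOf (x⁻¹ * z) = 2 then 1 else 0)
      else 0) = ∑ x : G, (if p z ∧ orderOf x = 2 ∧ orderOf (x⁻¹ * z) = 2 then 1 else 0) := by
    intro z
    by_cases hz : p z
    · simp [hz]
    · simp [hz]
  have h2 : ∀ x : G, (if orderOf x = 2 then ∑ y : G, (if orderOf y = 2 ∧ p (x * y) then 1 else 0)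
      else 0) = ∑ y : G, (if p (x * y) ∧ orderOf x = 2 ∧ orderOf y = 2 then 1 else 0) := by
    intro x
    by_cases hx : orderOf x = 2
    · simp only [hx, if_true, true_and]
      refine Finset.sum_congr rfl fun y _ => ?_
      congr 1
      exact propext and_comm
    · simp [hx]
  rw [Finset.sum_congr rfl fun z _ => h1 z, Finset.sum_congr rfl fun x _ => h2 x, Finset.sum_comm]
  refine Finset.sum_congr rfl fun x _ => ?_
  refine (Fintype.sum_equiv (Equiv.mulLeft x) _ _ fun y => ?_).symm
  simp only [Equiv.coe_mulLeft, inv_mul_cancel_left]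

/-- a lower bound for the number of products of two involutions in a set, from an upper bound
for those outside -/
theorem sum_rInv_ge (p : G → Prop) (ε : ℕ)
    (hε : ∀ x : G, orderOf x = 2 →
      (Finset.univ.filter fun y : G => orderOf y = 2 ∧ ¬ p (x * y)).card ≤ ε) :
    Nat.card {x : G // orderOf x = 2} * (Nat.card {x : G // orderOf x = 2} - ε) ≤
      ∑ z ∈ Finset.univ.filter p, rInv z := by
  rw [sum_rInv_filter, Nat.card_eq_fintype_card, Fintype.card_subtype]
  set I := (Finset.univ.filter fun x : G => orderOf x = 2).card with hI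
  have h1 : ∀ x ∈ Finset.univ.filter (fun x : G => orderOf x = 2),
      I - ε ≤ (Finset.univ.filter fun y : G => orderOf y = 2 ∧ p (x * y)).card := by
    intro x hx
    simp only [Finset.mem_filter, Finset.mem_univ, true_and] at hx
    have h2 := hε x hx
    have h3 : (Finset.univ.filter fun y : G => orderOf y = 2 ∧ p (x * y)).card +
        (Finset.univ.filter fun y : G => orderOf y = 2 ∧ ¬ p (x * y)).card = I := by
      rw [hI, ← Finset.card_union_of_disjoint]
      · congr 1
        ext y
        simp only [Finset.mem_union, Finset.mem_filter, Finset.mem_univ, true_and]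
        tauto
      · rw [Finset.disjoint_left]
        intro y hy1 hy2
        simp only [Finset.mem_filter, Finset.mem_univ, true_and] at hy1 hy2
        exact hy2.2 hy1.2
    omega
  calc I * (I - ε) = ∑ _x ∈ Finset.univ.filter (fun x : G => orderOf x = 2), (I - ε) := by
        rw [Finset.sum_const, smul_eq_mul]
    _ ≤ _ := Finset.sum_le_sum h1

end Cfsg.Agent.Lib.H4.Feit
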