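import Mathlib
import Cfsg.Agent.Lib.H4.Zas.Setup

/-!
# Zassenhaus groups: counting elements by their number of fixed points
-/

set_option autoImplicit false
set_option linter.unusedSectionVars false

namespace Cfsg.Agent.Lib.H4.Feit

open MulAction Cfsg Cfsg.Agent.Lib.H2.Zass Cfsg.Agent.Lib.H4.Zas
open scoped Classical

variable {G Ω : Type*} [Group G] [MulAction G Ω] [Fintype G] [Fintype Ω]

/-- the number of fixed points of an element -/
noncomputable def fx (g : G) : ℕ := (Finset.univ.filter fun c : Ω => g • c = c).card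

theorem fx_one : fx (Ω := Ω) (1 : G) = Fintype.card Ω := by
  unfold fx
  simp

theorem sum_fx : ∑ g : G, fx (Ω := Ω) g = ∑ c : Ω, Nat.card (stabilizer G c) := by
  unfold fx
  simp_rw [Finset.card_filter]
  rw [Finset.sum_comm]
  refine Finset.sum_congr rfl fun c _ => ?_
  rw [← Finset.card_filter, Nat.card_eq_fintype_card, Fintype.card_subtype]
  rfl

theorem sum_fx_pairs : ∑ g : G, fx (Ω := Ω) g * (fx (Ω := Ω) g - 1) =
    ∑ p ∈ (Finset.univ : Finset Ω).offDiag, Nat.card ↥(stabilizer G p.1 ⊓ stabilizer G p.2) := by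
  have h1 : ∀ g : G, fx (Ω := Ω) g * (fx (Ω := Ω) g - 1) =
      ∑ p ∈ (Finset.univ : Finset Ω).offDiag, if g • p.1 = p.1 ∧ g • p.2 = p.2 then 1 else 0 := by
    intro g
    rw [← Finset.card_filter]
    have : ((Finset.univ : Finset Ω).offDiag.filter fun p => g • p.1 = p.1 ∧ g • p.2 = p.2) =
        (Finset.univ.filter fun c : Ω => g • c = c).offDiag := by
      ext p
      simp only [Finset.mem_filter, Finset.mem_offDiag, Finset.mem_univ, true_and]
      tauto
    rw [this, Finset.offDiag_card]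
    unfold fx
    rw [Nat.mul_sub, mul_one]
  simp_rw [h1]
  rw [Finset.sum_comm]
  refine Finset.sum_congr rfl fun p _ => ?_
  rw [← Finset.card_filter, Nat.card_eq_fintype_card, Fintype.card_subtype]
  congr 1
  ext g
  simp only [Finset.mem_filter, Finset.mem_univ, true_and, Subgroup.mem_inf, mem_stabilizer_iff]

variable (hP : Pre G Ω)

include hP in
theorem fx_le_two {g : G} (hg : g ≠ 1) : fx (Ω := Ω) g ≤ 2 := by
  by_contra hcon
  push Not at hcon
  unfold fx at hcon
  obtain ⟨x, y, z, hx, hy, hz, hxy, hxz, hyz⟩ := Finset.two_lt_card_iff.1 hcon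
  simp only [Finset.mem_filter, Finset.mem_univ, true_and] at hx hy hz
  exact hg (hP.three g x y z hxy hyz hxz hx hy hz)

include hP in
theorem card_stabilizer_mul (c : Ω) : Nat.card (stabilizer G c) * Fintype.card Ω = Nat.card G := by
  have : IsPretransitive G Ω := by
    refine ⟨fun x y => ?_⟩
    by_cases hxy : x = y
    · exact ⟨1, by rw [one_smul, hxy]⟩
    · obtain ⟨g, hg, -⟩ := hP.two x y y x hxy (Ne.symm hxy)
      exact ⟨g, hg⟩
  have h1 : (stabilizer G c).index = Nat.card Ω := index_stabilizer_of_transitive G c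
  rw [← (stabilizer G c).card_mul_index, h1, Nat.card_eq_fintype_card (α := Ω)]

include hP in
theorem sum_fx_eq : ∑ g : G, fx (Ω := Ω) g = Nat.card G := by
  rw [sum_fx]
  have h : ∀ c : Ω, Nat.card (stabilizer G c) = Nat.card (stabilizer G (Classical.choice
      (by obtain ⟨a, -⟩ := exists_three hP; exact ⟨a⟩ : Nonempty Ω))) := by
    intro c
    have h1 := card_stabilizer_mul hP c
    have h2 := card_stabilizer_mul hP (Classical.choice
      (by obtain ⟨a, -⟩ := exists_three hP; exact ⟨a⟩ : Nonempty Ω))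
    have hpos : 0 < Fintype.card Ω := Fintype.card_pos_iff.2
      (by obtain ⟨a, -⟩ := exists_three hP; exact ⟨a⟩)
    exact Nat.eq_of_mul_eq_mul_right hpos (h1.trans h2.symm)
  rw [Finset.sum_congr rfl fun c _ => h c, Finset.sum_const, Finset.card_univ, smul_eq_mul,
    mul_comm]
  exact card_stabilizer_mul hP _

include hP in
theorem sum_fx_pairs_eq : ∑ g : G, fx (Ω := Ω) g * (fx (Ω := Ω) g - 1) = Nat.card G := by
  rw [sum_fx_pairs]
  obtain ⟨a, b, -, hab, -, -⟩ := exists_three hP
  have h : ∀ p ∈ (Finset.univ : Finset Ω).offDiag,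
      Nat.card ↥(stabilizer G p.1 ⊓ stabilizer G p.2) =
        Nat.card ↥(stabilizer G a ⊓ stabilizer G b) := by
    intro p hp
    have hp' : p.1 ≠ p.2 := by
      simpa using hp
    have h1 := card_eq hP p.1 p.2 hp'
    have h2 := card_eq hP a b hab
    have h3 : 3 ≤ Nat.card Ω := by
      obtain ⟨x, y, z, hxy, hyz, hxz⟩ := exists_three hP
      rw [Nat.card_eq_fintype_card]
      have : ({x, y, z} : Finset Ω).card = 3 := Finset.card_eq_three.2 ⟨x, y, z, hxy, hxz, hyz, rfl⟩
      rw [← this]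
      exact Finset.card_le_univ _
    have hpos : 0 < Nat.card Ω * (Nat.card Ω - 1) := by
      apply Nat.mul_pos <;> omega
    exact Nat.eq_of_mul_eq_mul_left hpos (h1.symm.trans h2)
  rw [Finset.sum_congr rfl h, Finset.sum_const, Finset.offDiag_card, smul_eq_mul, Finset.card_univ,
    card_eq hP a b hab, Nat.card_eq_fintype_card (α := Ω), Nat.mul_sub, mul_one]

include hP in
theorem three_le_card : 3 ≤ Fintype.card Ω := by
  obtain ⟨x, y, z, hxy, hyz, hxz⟩ := exists_three hP
  have : ({x, y, z} : Finset Ω).card = 3 := Finset.card_eq_three.2 ⟨x, y, z, hxy, hxz, hyz, rfl⟩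
  rw [← this]
  exact Finset.card_le_univ _

theorem fx_eq_zero_iff (g : G) : fx (Ω := Ω) g = 0 ↔ ∀ c : Ω, g • c ≠ c := by
  unfold fx
  rw [Finset.card_eq_zero, Finset.filter_eq_empty_iff]
  simp

include hP in
/-- the number of fixed point free elements -/
theorem card_fpf : 2 * Nat.card {g : G // ∀ c : Ω, g • c ≠ c} +
    (Fintype.card Ω - 1) * (Fintype.card Ω - 2) = Nat.card G := by
  have hn := three_le_card hP
  obtain ⟨m, hm⟩ : ∃ m, Fintype.card Ω = m + 3 := ⟨Fintype.card Ω - 3, by omega⟩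
  have h1 : ∀ g : G, fx (Ω := Ω) g * (fx (Ω := Ω) g - 1) + 2 = 2 * fx (Ω := Ω) g +
      ((if g = 1 then (m + 2) * (m + 1) else 0) + 2 * (if ∀ c : Ω, g • c ≠ c then 1 else 0)) := by
    intro g
    by_cases hg : g = 1
    · subst hg
      have : ¬ ∀ c : Ω, (1 : G) • c ≠ c := by
        obtain ⟨x, -⟩ := exists_three hP
        intro h
        exact h x (one_smul _ _)
      rw [if_pos rfl, if_neg this, fx_one, hm]
      simp only [show m + 3 - 1 = m + 2 by omega]
      ring
    · rw [if_neg hg]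
      have h2 := fx_le_two hP hg
      have h3 := fx_eq_zero_iff (Ω := Ω) g
      by_cases h0 : fx (Ω := Ω) g = 0
      · rw [if_pos (h3.1 h0), h0]
      · rw [if_neg (fun h => h0 (h3.2 h))]
        have : fx (Ω := Ω) g = 1 ∨ fx (Ω := Ω) g = 2 := by omega
        rcases this with h | h <;> rw [h]
  have h2 : ∑ g : G, (fx (Ω := Ω) g * (fx (Ω := Ω) g - 1) + 2) = ∑ g : G, (2 * fx (Ω := Ω) g +
      ((if g = 1 then (m + 2) * (m + 1) else 0) + 2 * (if ∀ c : Ω, g • c ≠ c then 1 else 0))) :=
    Finset.sum_congr rfl fun g _ => h1 g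
  rw [Finset.sum_add_distrib, Finset.sum_add_distrib, Finset.sum_add_distrib, sum_fx_pairs_eq hP,
    ← Finset.mul_sum, ← Finset.mul_sum, sum_fx_eq hP, Finset.sum_const, Finset.card_univ,
    smul_eq_mul, ← Nat.card_eq_fintype_card, Finset.sum_ite_eq' Finset.univ (1 : G),
    if_pos (Finset.mem_univ _), ← Finset.card_filter, ← Fintype.card_subtype,
    ← Nat.card_eq_fintype_card] at h2
  rw [hm]
  simp only [show m + 3 - 1 = m + 2 by omega, show m + 3 - 2 = m + 1 by omega]
  omega

end Cfsg.Agent.Lib.H4.Feit
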