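import Mathlib
import Cfsg.Agent.Lib.H4.Feit.Count
import Cfsg.Agent.Lib.H4.Zas.OddNorm

/-!
# Simple Zassenhaus groups with two point stabilizers of odd order: involutions
-/

set_option autoImplicit false
set_option linter.unusedSectionVars false

namespace Cfsg.Agent.Lib.H4.Feit

open MulAction Cfsg Cfsg.Agent.Lib.H2.Zass Cfsg.Agent.Lib.H4.Zas

variable {G Ω : Type*} [Group G] [MulAction G Ω] [Finite G] [Fintype Ω]

theorem card_inf_eq (hP : Pre G Ω) {a b c d : Ω} (hab : a ≠ b) (hcd : c ≠ d) :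
    Nat.card ↥(stabilizer G c ⊓ stabilizer G d) = Nat.card ↥(stabilizer G a ⊓ stabilizer G b) := by
  classical
  haveI : Fintype G := Fintype.ofFinite G
  have h1 := card_eq hP c d hcd
  have h2 := card_eq hP a b hab
  have h3 : 3 ≤ Nat.card Ω := by
    rw [Nat.card_eq_fintype_card]
    exact three_le_card hP
  have hpos : 0 < Nat.card Ω * (Nat.card Ω - 1) := by
    apply Nat.mul_pos <;> omega
  exact Nat.eq_of_mul_eq_mul_left hpos (h1.symm.trans h2)

/-- the hypotheses on a simple Zassenhaus group with two point stabilizers of odd order -/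
structure OddSimple (G Ω : Type*) [Group G] [MulAction G Ω] : Prop where
  zas : IsZassenhausGroup G Ω
  simple : IsSimpleGroup G
  odd : ∀ a b : Ω, a ≠ b → Odd (Nat.card ↥(stabilizer G a ⊓ stabilizer G b))

theorem oddSimple_of (hZ : IsZassenhausGroup G Ω) [IsSimpleGroup G] {a b : Ω} (hab : a ≠ b)
    (hodd : Odd (Nat.card ↥(stabilizer G a ⊓ stabilizer G b))) : OddSimple G Ω where
  zas := hZ
  simple := inferInstance
  odd := by
    intro c d hcd
    rw [card_inf_eq (pre_of_zassenhaus hZ) hab hcd]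
    exact hodd

namespace OddSimple

variable (hS : OddSimple G Ω)

include hS in
theorem pre : Pre G Ω := pre_of_zassenhaus hS.zas

include hS in
theorem hnil {a b : Ω} (hab : a ≠ b) : ∀ q : ℕ, q.Prime →
    q ∣ Nat.card ↥(stabilizer G a ⊓ stabilizer G b) →
      ¬ ∃ N : Subgroup G, N.Normal ∧ N.index = q ^ (Nat.card G).factorization q := by
  classical
  haveI : Fintype G := Fintype.ofFinite G
  haveI := hS.simple
  intro q hq hqe
  rintro ⟨N, hN, hidx⟩
  have hP := hS.pre
  have hqG : q ∣ Nat.card G := hqe.trans (Subgroup.card_subgroup_dvd_card _)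
  have hGpos : Nat.card G ≠ 0 := Nat.card_pos.ne'
  rcases hN.eq_bot_or_eq_top with rfl | rfl
  · rw [Subgroup.index_bot] at hidx
    -- |G| is a power of q, but it is even and e is odd
    have hG := card_eq hP a b hab
    have h2 : 2 ∣ Nat.card G := by
      rw [hG]
      apply Dvd.dvd.mul_right
      have := Nat.even_mul_pred_self (Nat.card Ω)
      exact even_iff_two_dvd.1 this
    rw [hidx] at h2
    have h3 : 2 ∣ q := Nat.Prime.dvd_of_dvd_pow Nat.prime_two h2
    have h4 : q = 2 := ((Nat.prime_dvd_prime_iff_eq Nat.prime_two hq).1 h3).symm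
    have h5 := hS.odd a b hab
    rw [h4] at hqe
    exact (Nat.not_even_iff_odd.2 h5) (even_iff_two_dvd.2 hqe)
  · rw [Subgroup.index_top] at hidx
    have h1 : (Nat.card G).factorization q = 0 := by
      by_contra h
      have : 1 < q ^ (Nat.card G).factorization q := Nat.one_lt_pow h hq.one_lt
      omega
    rw [Nat.factorization_eq_zero_iff] at h1
    rcases h1 with h1 | h1 | h1
    · exact h1 hq
    · exact h1 hqG
    · exact hGpos h1

include hS in
/-- a swap inverts the two point stabilizer -/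
theorem swap_inv {a b : Ω} (hab : a ≠ b) {s : G} (hsa : s • a = b) (hsb : s • b = a) {x : G}
    (hxa : x • a = a) (hxb : x • b = b) : s * x * s⁻¹ = x⁻¹ :=
  (odd_main hS.zas hab (hS.odd a b hab) (hS.hnil hab)).2.2 s hsa hsb x
    (by rw [Subgroup.mem_inf]; exact ⟨hxa, hxb⟩)

include hS in
/-- the two point stabilizer is commutative -/
theorem comm_stab {a b : Ω} (hab : a ≠ b) {x y : G}
    (hxa : x • a = a) (hxb : x • b = b) (hya : y • a = a) (hyb : y • b = b) : x * y = y * x := by
  have h := (odd_main hS.zas hab (hS.odd a b hab) (hS.hnil hab)).1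
  have hc := h.commutative
  have := mul_comm' (⟨x, by rw [Subgroup.mem_inf]; exact ⟨hxa, hxb⟩⟩ :
    ↥(stabilizer G a ⊓ stabilizer G b)) ⟨y, by rw [Subgroup.mem_inf]; exact ⟨hya, hyb⟩⟩
  exact congrArg Subtype.val this

include hS in
/-- an element of the two point stabilizer whose square is trivial is trivial -/
theorem eq_one_of_sq {a b : Ω} (hab : a ≠ b) {x : G} (hxa : x • a = a) (hxb : x • b = b)
    (hx : x * x = 1) : x = 1 := by
  have hodd := hS.odd a b hab
  set E := stabilizer G a ⊓ stabilizer G b with hE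
  have hxE : x ∈ E := by rw [hE, Subgroup.mem_inf]; exact ⟨hxa, hxb⟩
  have h1 : orderOf (⟨x, hxE⟩ : E) ∣ 2 := by
    apply orderOf_dvd_of_pow_eq_one
    apply Subtype.ext
    simp [pow_two, hx]
  have h2 : orderOf (⟨x, hxE⟩ : E) ∣ Nat.card E := orderOf_dvd_natCard _
  have h3 : orderOf (⟨x, hxE⟩ : E) = 1 := by
    rcases (Nat.dvd_prime Nat.prime_two).1 h1 with h | h
    · exact h
    · rw [h] at h2
      exact absurd (even_iff_two_dvd.2 h2) (Nat.not_even_iff_odd.2 hodd)
  have := orderOf_eq_one_iff.1 h3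
  exact congrArg Subtype.val this

include hS in
/-- a swap is an involution -/
theorem swap_mul_self {a b : Ω} (hab : a ≠ b) {s : G} (hsa : s • a = b) (hsb : s • b = a) :
    s * s = 1 := by
  have h1 : (s * s) • a = a := by rw [mul_smul, hsa, hsb]
  have h2 : (s * s) • b = b := by rw [mul_smul, hsb, hsa]
  have h3 := hS.swap_inv hab hsa hsb h1 h2
  have h4 : s * (s * s) * s⁻¹ = s * s := by group
  rw [h4] at h3
  apply hS.eq_one_of_sq hab h1 h2
  calc s * s * (s * s) = s * s * (s * s)⁻¹ := by rw [← h3]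
    _ = 1 := mul_inv_cancel _

include hS in
theorem orderOf_swap {a b : Ω} (hab : a ≠ b) {s : G} (hsa : s • a = b) (hsb : s • b = a) :
    orderOf s = 2 := by
  apply orderOf_eq_prime
  · rw [pow_two]
    exact hS.swap_mul_self hab hsa hsb
  · rintro rfl
    rw [one_smul] at hsa
    exact hab hsa

include hS in
/-- an involution fixes at most one point -/
theorem invol_fix_unique {t : G} (ht : orderOf t = 2) {c d : Ω} (hc : t • c = c) (hd : t • d = d) :
    c = d := by
  by_contra hcd
  have h1 : t * t = 1 := by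
    rw [← pow_two, ← ht]
    exact pow_orderOf_eq_one t
  have h2 := hS.eq_one_of_sq hcd hc hd h1
  rw [h2, orderOf_one] at ht
  omega

theorem invol_swap {t : G} (ht : orderOf t = 2) (c : Ω) : t • (t • c) = c := by
  rw [← mul_smul, ← pow_two, ← ht, pow_orderOf_eq_one, one_smul]

theorem invol_exists_moved (hP : Pre G Ω) {t : G} (ht : orderOf t = 2) : ∃ c : Ω, t • c ≠ c := by
  by_contra hcon
  push Not at hcon
  have := hP.faithful t hcon
  rw [this, orderOf_one] at ht
  omega

/-- the number of swaps of a pair of points -/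
theorem card_swaps (hP : Pre G Ω) {c d : Ω} (hcd : c ≠ d) :
    Nat.card {t : G // t • c = d ∧ t • d = c} = Nat.card ↥(stabilizer G c ⊓ stabilizer G d) := by
  obtain ⟨s, hsc, hsd⟩ := hP.two c d d c hcd (Ne.symm hcd)
  have e1 : s⁻¹ • c = d := by rw [inv_smul_eq_iff, hsd]
  have e2 : s⁻¹ • d = c := by rw [inv_smul_eq_iff, hsc]
  refine Nat.card_congr
    { toFun := fun t => ⟨t.1 * s⁻¹, ?_⟩
      invFun := fun x => ⟨x.1 * s, ?_⟩
      left_inv := ?_
      right_inv := ?_ }
  · rw [Subgroup.mem_inf, mem_stabilizer_iff, mem_stabilizer_iff, mul_smul, mul_smul, e1, e2]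
    exact ⟨t.2.2, t.2.1⟩
  · have := x.2
    rw [Subgroup.mem_inf, mem_stabilizer_iff, mem_stabilizer_iff] at this
    rw [mul_smul, mul_smul, hsc, hsd]
    exact ⟨this.2, this.1⟩
  · intro t
    apply Subtype.ext
    simp
  · intro x
    apply Subtype.ext
    simp

include hS in
/-- the number of points moved by an involution -/
theorem card_moved {t : G} (ht : orderOf t = 2) :
    Nat.card {c : Ω // t • c ≠ c} = Fintype.card Ω - Fintype.card Ω % 2 := by
  classical
  have h1 : Nat.card {c : Ω // t • c ≠ c} + Nat.card {c : Ω // t • c = c} = Fintype.card Ω := by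
    rw [Nat.card_eq_fintype_card, Nat.card_eq_fintype_card, add_comm]
    exact Fintype.card_subtype_compl (fun c : Ω => t • c = c) ▸ (by
      have := Fintype.card_subtype_le (fun c : Ω => t • c = c)
      omega)
  have h2 : Nat.card {c : Ω // t • c = c} ≤ 1 := by
    rw [Finite.card_le_one_iff_subsingleton]
    exact ⟨fun x y => Subtype.ext (hS.invol_fix_unique ht x.2 y.2)⟩
  have h3 : Fintype.card Ω ≡ Nat.card {c : Ω // t • c = c} [MOD 2] := by
    haveI : Fact (Nat.Prime 2) := ⟨Nat.prime_two⟩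
    let f : Function.End Ω := fun c : Ω => t • c
    have hf : f ^ 2 ^ 1 = 1 := by
      rw [pow_one, pow_two]
      funext c
      exact invol_swap ht c
    have := Equiv.Perm.card_fixedPoints_modEq (p := 2) (n := 1) hf
    rw [Nat.card_eq_fintype_card]
    convert this using 2
    rfl
  have h4 := h3
  unfold Nat.ModEq at h4
  omega

include hS in
/-- counting the involutions -/
theorem card_invol_mul {a b : Ω} (hab : a ≠ b) :
    Nat.card {t : G // orderOf t = 2} * (Fintype.card Ω - Fintype.card Ω % 2) =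
      Fintype.card Ω * (Fintype.card Ω - 1) * Nat.card ↥(stabilizer G a ⊓ stabilizer G b) := by
  classical
  have : Fintype G := Fintype.ofFinite G
  have hP := hS.pre
  have e : (Σ p : {p : Ω × Ω // p.1 ≠ p.2}, {t : G // t • p.1.1 = p.1.2 ∧ t • p.1.2 = p.1.1}) ≃
      (Σ t : {t : G // orderOf t = 2}, {c : Ω // t.1 • c ≠ c}) :=
    { toFun := fun q => ⟨⟨q.2.1, hS.orderOf_swap q.1.2 q.2.2.1 q.2.2.2⟩, ⟨q.1.1.1, by
        rw [q.2.2.1]
        exact Ne.symm q.1.2⟩⟩
      invFun := fun q => ⟨⟨(q.2.1, q.1.1 • q.2.1), Ne.symm q.2.2⟩, ⟨q.1.1, rfl, invol_swap q.1.2 _⟩⟩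
      left_inv := by
        rintro ⟨⟨⟨c, d⟩, hcd⟩, ⟨t, h1, h2⟩⟩
        simp only at h1 h2 hcd
        subst h1
        rfl
      right_inv := by
        rintro ⟨⟨t, ht⟩, ⟨c, hc⟩⟩
        rfl }
  have h1 := Nat.card_congr e
  rw [Nat.card_sigma, Nat.card_sigma] at h1
  have h2 : ∀ p : {p : Ω × Ω // p.1 ≠ p.2},
      Nat.card {t : G // t • p.1.1 = p.1.2 ∧ t • p.1.2 = p.1.1} =
        Nat.card ↥(stabilizer G a ⊓ stabilizer G b) := by
    intro p
    rw [card_swaps hP p.2, card_inf_eq hP hab p.2]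
  have h3 : ∀ t : {t : G // orderOf t = 2}, Nat.card {c : Ω // t.1 • c ≠ c} =
      Fintype.card Ω - Fintype.card Ω % 2 := fun t => hS.card_moved t.2
  rw [Finset.sum_congr rfl fun p _ => h2 p, Finset.sum_congr rfl fun t _ => h3 t,
    Finset.sum_const, Finset.sum_const, Finset.card_univ, Finset.card_univ, smul_eq_mul,
    smul_eq_mul] at h1
  rw [Nat.card_eq_fintype_card (α := {t : G // orderOf t = 2}), ← h1]
  congr 1
  rw [Fintype.card_subtype]
  have : (Finset.univ.filter fun p : Ω × Ω => p.1 ≠ p.2) = (Finset.univ : Finset Ω).offDiag := by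
    ext p
    simp
  rw [this, Finset.offDiag_card, Finset.card_univ, Nat.mul_sub, mul_one]

include hS in
/-- every element of the two point stabilizer is a square there -/
theorem exists_sq {a b : Ω} (hab : a ≠ b) {z : G} (hza : z • a = a) (hzb : z • b = b) :
    ∃ w : G, w • a = a ∧ w • b = b ∧ w * w = z := by
  obtain ⟨k, hk⟩ := hS.odd a b hab
  set E := stabilizer G a ⊓ stabilizer G b with hE
  have hzE : z ∈ E := by rw [hE, Subgroup.mem_inf]; exact ⟨hza, hzb⟩
  have h1 : z ^ (2 * k + 1) = 1 := by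
    have := pow_card_eq_one' (G := E) (x := ⟨z, hzE⟩)
    rw [hk] at this
    exact congrArg Subtype.val this
  have hw : z ^ (k + 1) ∈ E := E.pow_mem hzE _
  rw [hE, Subgroup.mem_inf] at hw
  refine ⟨z ^ (k + 1), hw.1, hw.2, ?_⟩
  rw [← pow_add, show k + 1 + (k + 1) = (2 * k + 1) + 1 by ring, pow_succ, h1, one_mul]

include hS in
/-- all involutions are conjugate -/
theorem invol_conj {x y : G} (hx : orderOf x = 2) (hy : orderOf y = 2) : IsConj x y := by
  have hP := hS.pre
  obtain ⟨c, hc⟩ := invol_exists_moved hP hx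
  obtain ⟨d, hd⟩ := invol_exists_moved hP hy
  obtain ⟨g, hg1, hg2⟩ := hP.two c (x • c) d (y • d) (Ne.symm hc) (Ne.symm hd)
  have hxx := invol_swap hx c
  have hyy := invol_swap hy d
  have hginv1 : g⁻¹ • d = c := by rw [inv_smul_eq_iff, hg1]
  have hginv2 : g⁻¹ • (y • d) = x • c := by rw [inv_smul_eq_iff, hg2]
  -- y' = g x g⁻¹ swaps d and y d
  have h1 : (g * x * g⁻¹) • d = y • d := by rw [mul_smul, mul_smul, hginv1, hg2]
  have h2 : (g * x * g⁻¹) • (y • d) = d := by rw [mul_smul, mul_smul, hginv2, hxx, hg1]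
  have hyinv1 : y⁻¹ • d = y • d := by rw [inv_smul_eq_iff, hyy]
  have hyinv2 : y⁻¹ • (y • d) = d := by rw [inv_smul_smul]
  have hz1 : (g * x * g⁻¹ * y⁻¹) • d = d := by rw [mul_smul, hyinv1, h2]
  have hz2 : (g * x * g⁻¹ * y⁻¹) • (y • d) = y • d := by rw [mul_smul, hyinv2, h1]
  obtain ⟨w, hw1, hw2, hww⟩ := hS.exists_sq (Ne.symm hd) hz1 hz2
  have hwi1 : w⁻¹ • d = d := by rw [inv_smul_eq_iff, hw1]
  have hwi2 : w⁻¹ • (y • d) = y • d := by rw [inv_smul_eq_iff, hw2]
  have h3 := hS.swap_inv (Ne.symm hd) rfl hyy hwi1 hwi2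
  rw [inv_inv] at h3
  -- w y w⁻¹ = w w y
  have h4 : w * y * w⁻¹ = g * x * g⁻¹ := by
    have : y * w⁻¹ = w * y := by
      have := congrArg (· * y) h3
      simpa using this
    calc w * y * w⁻¹ = w * (y * w⁻¹) := by group
      _ = w * (w * y) := by rw [this]
      _ = (w * w) * y := by group
      _ = g * x * g⁻¹ := by rw [hww]; group
  rw [isConj_iff]
  refine ⟨w⁻¹ * g, ?_⟩
  calc w⁻¹ * g * x * (w⁻¹ * g)⁻¹ = w⁻¹ * (g * x * g⁻¹) * w := by group
    _ = w⁻¹ * (w * y * w⁻¹) * w := by rw [h4]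
    _ = y := by group

end OddSimple

end Cfsg.Agent.Lib.H4.Feit
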