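import Mathlib
import Cfsg.Agent.Lib.H4.Feit.Invol
import Cfsg.Agent.Lib.H2.ClassCard

/-!
# Simple Zassenhaus groups with two point stabilizers of odd order: the kernel of a point
stabilizer and its involutions
-/

set_option autoImplicit false
set_option linter.unusedSectionVars false

namespace Cfsg.Agent.Lib.H4.Feit

open MulAction Cfsg Cfsg.Agent.Lib.H2.Zass Cfsg.Agent.Lib.H4.Zas

variable {G Ω : Type*} [Group G] [MulAction G Ω] [Finite G] [Fintype Ω]

/-- `H` is the kernel of the stabilizer of `a` -/
structure IsKer (H : Subgroup G) (a : Ω) : Prop where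
  le : H ≤ stabilizer G a
  card : Nat.card H + 1 = Fintype.card Ω
  fix : ∀ u ∈ H, u ≠ 1 → ∀ c : Ω, u • c = c → c = a

namespace IsKer

variable {H : Subgroup G} {a : Ω} (hH : IsKer H a)

include hH in
theorem eq_K (hP : Pre G Ω) : H = K hP a := by
  have h1 : H ≤ K hP a := by
    intro u hu
    rw [mem_K_iff]
    refine ⟨hH.le hu, ?_⟩
    by_cases h : u = 1
    · exact Or.inl h
    · right
      intro y hy hfix
      exact hy (hH.fix u hu h y hfix)
  have h2 := card_K hP a
  rw [Nat.card_eq_fintype_card (α := Ω)] at h2
  have h3 : Nat.card (K hP a) ≤ Nat.card H := by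
    have := hH.card
    omega
  exact Subgroup.eq_of_le_of_card_ge h1 h3

include hH in
theorem mem_of_fix_only (hP : Pre G Ω) {g : G} (hga : g • a = a)
    (hg : ∀ c : Ω, g • c = c → c = a) : g ∈ H := by
  rw [hH.eq_K hP, mem_K_iff]
  exact ⟨hga, Or.inr fun y hy hfix => hy (hg y hfix)⟩

include hH in
/-- the conjugates of the kernel are kernels -/
theorem conj (g : G) : IsKer (H.map (MulAut.conj g).toMonoidHom) (g • a) where
  le := by
    rintro _ ⟨u, hu, rfl⟩
    have := hH.le hu
    rw [mem_stabilizer_iff] at this ⊢
    simp only [MulEquiv.coe_toMonoidHom, MulAut.conj_apply]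
    rw [mul_smul, mul_smul, inv_smul_smul, this]
  card := by
    rw [← hH.card]
    congr 1
    exact (Nat.card_congr (H.equivMapOfInjective _ (MulAut.conj g).injective).toEquiv).symm
  fix := by
    rintro _ ⟨u, hu, rfl⟩ hne c hc
    simp only [MulEquiv.coe_toMonoidHom, MulAut.conj_apply] at hc hne
    have hu1 : u ≠ 1 := by
      rintro rfl
      apply hne
      group
    have h1 : u • (g⁻¹ • c) = g⁻¹ • c := by
      rw [mul_smul, mul_smul] at hc
      exact (smul_eq_iff_eq_inv_smul g).1 hc
    have := hH.fix u hu hu1 _ h1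
    rw [inv_smul_eq_iff] at this
    exact this

end IsKer

namespace OddSimple

variable (hS : OddSimple G Ω) {H : Subgroup G} {a : Ω} (hH : IsKer H a)

include hS hH in
/-- an involution fixing `a` lies in the kernel -/
theorem invol_mem {t : G} (ht : orderOf t = 2) (hta : t • a = a) : t ∈ H :=
  hH.mem_of_fix_only hS.pre hta fun _ hc => hS.invol_fix_unique ht hc hta

include hS hH in
/-- the centralizer of an involution of the kernel lies in the kernel -/
theorem centralizer_invol_le {t : G} (ht : orderOf t = 2) (htH : t ∈ H) :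
    Subgroup.centralizer ({t} : Set G) ≤ H := by
  have hP := hS.pre
  intro g hg
  rw [Subgroup.mem_centralizer_singleton_iff] at hg
  have hta : t • a = a := hH.le htH
  have ht1 : t ≠ 1 := by
    rintro rfl
    rw [orderOf_one] at ht
    omega
  -- g fixes a
  have hga : g • a = a := by
    apply hH.fix t htH ht1
    rw [← mul_smul, ← hg, mul_smul, hta]
  by_cases hg1 : g = 1
  · rw [hg1]
    exact H.one_mem
  apply hH.mem_of_fix_only hP hga
  intro c hc
  by_contra hca
  have htc : t • c ≠ c := fun h => hca (hS.invol_fix_unique ht h hta)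
  have htca : t • c ≠ a := by
    intro h
    apply hca
    have : t • c = t • a := h.trans hta.symm
    exact smul_left_cancel t this
  have hfix : g • (t • c) = t • c := by
    rw [← mul_smul, hg, mul_smul, hc]
  exact hg1 (hP.three g a c (t • c) (Ne.symm hca) (Ne.symm htc) (Ne.symm htca) hga hc hfix)

include hS hH in
/-- if the kernel contains an involution, the number of points is odd -/
theorem card_mod_two_of_invol {t : G} (ht : orderOf t = 2) (hta : t • a = a) :
    Fintype.card Ω % 2 = 1 := by
  classical
  have h1 := hS.card_moved ht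
  have h2 : Nat.card {c : Ω // t • c ≠ c} < Fintype.card Ω := by
    rw [Nat.card_eq_fintype_card]
    apply Fintype.card_subtype_lt (x := a)
    intro h
    exact h hta
  omega

include hS hH in
/-- the centralizer of an involution of the kernel is the kernel -/
theorem centralizer_invol_eq {b : Ω} (hab : a ≠ b) {t : G} (ht : orderOf t = 2) (htH : t ∈ H) :
    Subgroup.centralizer ({t} : Set G) = H := by
  classical
  haveI : Fintype G := Fintype.ofFinite G
  have hP := hS.pre
  apply Subgroup.eq_of_le_of_card_ge (hS.centralizer_invol_le hH ht htH)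
  have hta : t • a = a := hH.le htH
  have hmod := hS.card_mod_two_of_invol hH ht hta
  have h1 := hS.card_invol_mul hab
  have h2 := Cfsg.Agent.Lib.H2.ncard_conj_mul_card_centralizer t
  have h3 : {y : G | IsConj t y} = {y : G | orderOf y = 2} := by
    ext y
    constructor
    · rintro ⟨c, hc⟩
      have := hc.orderOf_eq
      rw [Set.mem_ofPred_eq, ← this, ht]
    · intro hy
      exact hS.invol_conj ht hy
  rw [h3] at h2
  have h4 : Set.ncard {y : G | orderOf y = 2} = Nat.card {y : G // orderOf y = 2} := by
    rw [← Nat.card_coe_set_eq]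
    rfl
  rw [h4] at h2
  have h5 := card_eq hP a b hab
  rw [Nat.card_eq_fintype_card (α := Ω)] at h5
  have h6 := hH.card
  have hn := three_le_card hP
  rw [hmod] at h1
  set n := Fintype.card Ω
  set I := Nat.card {y : G // orderOf y = 2}
  set e := Nat.card ↥(stabilizer G a ⊓ stabilizer G b)
  set C := Nat.card (Subgroup.centralizer ({t} : Set G))
  have hepos : 0 < e := Nat.card_pos
  -- I * (n-1) = n (n-1) e, so I = n e; I * C = n (n-1) e so C = n - 1
  have h7 : I = n * e := by
    have : I * (n - 1) = (n * e) * (n - 1) := by rw [h1]; ring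
    exact Nat.eq_of_mul_eq_mul_right (by omega) this
  have h8 : C = n - 1 := by
    have : (n * e) * C = (n * e) * (n - 1) := by
      rw [← h7, h2, h5]
      rw [h7]
      ring
    exact Nat.eq_of_mul_eq_mul_left (by positivity) this
  omega

include hS hH in
/-- the involutions of the kernel commute -/
theorem invol_comm {b : Ω} (hab : a ≠ b) {x y : G} (hx : orderOf x = 2) (hxH : x ∈ H)
    (hyH : y ∈ H) : x * y = y * x := by
  have h := hS.centralizer_invol_eq hH hab hx hxH
  rw [← h, Subgroup.mem_centralizer_singleton_iff] at hyH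
  exact hyH.symm

include hS hH in
/-- if a product of two involutions is a non-identity element of the kernel, both lie in the
kernel -/
theorem mem_of_mul_mem {x y : G} (hx : orderOf x = 2) (hy : orderOf y = 2) (hxy : x * y ∈ H)
    (hne : x * y ≠ 1) : x ∈ H ∧ y ∈ H := by
  have hxx : x * x = 1 := by rw [← pow_two, ← hx]; exact pow_orderOf_eq_one x
  have hyy : y * y = 1 := by rw [← pow_two, ← hy]; exact pow_orderOf_eq_one y
  have hxinv : x⁻¹ = x := inv_eq_of_mul_eq_one_left hxx
  have hyinv : y⁻¹ = y := inv_eq_of_mul_eq_one_left hyy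
  have hua : (x * y) • a = a := hH.le hxy
  -- x (x y) x⁻¹ = y x = (x y)⁻¹
  have h1 : (x * y)⁻¹ = y * x := by rw [mul_inv_rev, hxinv, hyinv]
  have h2 : (y * x) ∈ H := by rw [← h1]; exact H.inv_mem hxy
  have h3 : y * x ≠ 1 := by
    rw [← h1]
    exact inv_ne_one.2 hne
  have hxa : x • a = a := by
    apply hH.fix (y * x) h2 h3
    have : (y * x) • (x • a) = y • a := by rw [← mul_smul, mul_assoc, hxx, mul_one]
    rw [this]
    have h4 : (x * y) • a = a := hua
    rw [mul_smul] at h4
    have h5 : x • (x • (y • a)) = x • a := by rw [h4]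
    rw [← mul_smul, hxx, one_smul] at h5
    exact h5
  have hya : y • a = a := by
    rw [mul_smul] at hua
    have := congrArg (x • ·) hua
    simp only [← mul_smul, ← mul_assoc, hxx, one_mul] at this
    rw [this, hxa]
  exact ⟨hS.invol_mem hH hx hxa, hS.invol_mem hH hy hya⟩

end OddSimple

end Cfsg.Agent.Lib.H4.Feit
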