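import Mathlib
import Cfsg.Agent.Lib.H4.Feit.Kernel
import Cfsg.Agent.Lib.H4.Feit.ClassSum

/-!
# Simple Zassenhaus groups with two point stabilizers of odd order: classes missing the kernel
-/

set_option autoImplicit false
set_option linter.unusedSectionVars false

namespace Cfsg.Agent.Lib.H4.Feit

open MulAction Cfsg Cfsg.Agent.Lib.H2.Zass Cfsg.Agent.Lib.H4.Zas
open scoped Classical

variable {G Ω : Type*} [Group G] [MulAction G Ω] [Fintype G] [Fintype Ω]

namespace OddSimple

variable (hS : OddSimple G Ω)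

theorem orderOf_conj_eq (k x : G) : orderOf (k * x * k⁻¹) = orderOf x := by
  have : SemiconjBy k x (k * x * k⁻¹) := by
    unfold SemiconjBy
    group
  exact (this.orderOf_eq).symm

include hS in
/-- an involution has a fixed point when the number of points is odd -/
theorem invol_exists_fix (hn : Fintype.card Ω % 2 = 1) {t : G} (ht : orderOf t = 2) :
    ∃ c : Ω, t • c = c := by
  by_contra hcon
  push Not at hcon
  have h1 := hS.card_moved ht
  have h2 : Nat.card {c : Ω // t • c ≠ c} = Fintype.card Ω := by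
    rw [Nat.card_eq_fintype_card]
    exact Fintype.card_of_subtype Finset.univ (by simpa using hcon)
  have := three_le_card hS.pre
  omega

include hS in
/-- an involution has no fixed point when the number of points is even -/
theorem invol_no_fix (hn : Fintype.card Ω % 2 = 0) {t : G} (ht : orderOf t = 2) (c : Ω) :
    t • c ≠ c := by
  intro hc
  have h1 := hS.card_moved ht
  have h2 : Nat.card {c : Ω // t • c ≠ c} < Fintype.card Ω := by
    rw [Nat.card_eq_fintype_card]
    apply Fintype.card_subtype_lt (x := c)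
    intro h
    exact h hc
  omega

theorem card_invol_fix_eq (c c' : Ω) (hP : Pre G Ω) :
    Nat.card {t : G // orderOf t = 2 ∧ t • c = c} =
      Nat.card {t : G // orderOf t = 2 ∧ t • c' = c'} := by
  obtain ⟨g, hg⟩ : ∃ g : G, g • c = c' := by
    by_cases h : c = c'
    · exact ⟨1, by rw [one_smul, h]⟩
    · obtain ⟨g, hg, -⟩ := hP.two c c' c' c h (Ne.symm h)
      exact ⟨g, hg⟩
  have hginv : g⁻¹ • c' = c := by rw [inv_smul_eq_iff, hg]
  refine Nat.card_congr
    { toFun := fun t => ⟨g * t.1 * g⁻¹, by rw [orderOf_conj_eq]; exact t.2.1, by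
        rw [mul_smul, mul_smul, hginv, t.2.2, hg]⟩
      invFun := fun t => ⟨g⁻¹ * t.1 * g, by
        have := orderOf_conj_eq g⁻¹ t.1
        rw [inv_inv] at this
        rw [this]
        exact t.2.1, by
        rw [mul_smul, mul_smul, hg, t.2.2, hginv]⟩
      left_inv := by
        intro t
        apply Subtype.ext
        simp only
        group
      right_inv := by
        intro t
        apply Subtype.ext
        simp only
        group }

include hS in
/-- the number of involutions fixing a point, when the number of points is odd -/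
theorem card_invol_fix (hn : Fintype.card Ω % 2 = 1) {a b : Ω} (hab : a ≠ b) (c : Ω) :
    Nat.card {t : G // orderOf t = 2 ∧ t • c = c} =
      Nat.card ↥(stabilizer G a ⊓ stabilizer G b) := by
  have hP := hS.pre
  have e1 : (Σ c : Ω, {t : G // orderOf t = 2 ∧ t • c = c}) ≃ {t : G // orderOf t = 2} := by
    refine Equiv.ofBijective (fun q => ⟨q.2.1, q.2.2.1⟩) ⟨?_, ?_⟩
    · rintro ⟨c, t, ht, htc⟩ ⟨c', t', ht', htc'⟩ h
      simp only [Subtype.mk.injEq] at h
      subst h
      have := hS.invol_fix_unique ht htc htc'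
      subst this
      rfl
    · rintro ⟨t, ht⟩
      obtain ⟨c, hc⟩ := hS.invol_exists_fix hn ht
      exact ⟨⟨c, t, ht, hc⟩, rfl⟩
  have h1 := Nat.card_congr e1
  rw [Nat.card_sigma, Finset.sum_congr rfl fun c' _ => card_invol_fix_eq c' c hP, Finset.sum_const,
    Finset.card_univ, smul_eq_mul] at h1
  have h2 := hS.card_invol_mul hab
  rw [hn, ← h1] at h2
  have h3 := three_le_card hP
  have h4 : Fintype.card Ω * (Fintype.card Ω - 1) *
      Nat.card {t : G // orderOf t = 2 ∧ t • c = c} = Fintype.card Ω * (Fintype.card Ω - 1) *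
        Nat.card ↥(stabilizer G a ⊓ stabilizer G b) := by
    rw [← h2]
    ring
  exact Nat.eq_of_mul_eq_mul_left (Nat.mul_pos (by omega) (by omega)) h4

variable {H : Subgroup G} {a : Ω} (hH : IsKer H a)

include hS hH in
theorem bad_cases {x y : G} (hx : orderOf x = 2) (hy : orderOf y = 2) {k : G}
    (hk : k * (x * y) * k⁻¹ ∈ H) : y = x ∨ ∃ c : Ω, x • c = c ∧ y • c = c := by
  by_cases h1 : x * y = 1
  · left
    have := inv_eq_self_of_orderOf_two hx
    rw [← this]
    exact (inv_eq_of_mul_eq_one_right h1).symm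
  · right
    have e1 : k * (x * y) * k⁻¹ = (k * x * k⁻¹) * (k * y * k⁻¹) := by group
    rw [e1] at hk
    have hne : (k * x * k⁻¹) * (k * y * k⁻¹) ≠ 1 := by
      rw [← e1]
      intro h
      apply h1
      have : x * y = k⁻¹ * (k * (x * y) * k⁻¹) * k := by group
      rw [this, h]
      group
    obtain ⟨h2, h3⟩ := hS.mem_of_mul_mem hH (by rw [orderOf_conj_eq]; exact hx)
      (by rw [orderOf_conj_eq]; exact hy) hk hne
    have h4 : (k * x * k⁻¹) • a = a := hH.le h2
    have h5 : (k * y * k⁻¹) • a = a := hH.le h3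
    refine ⟨k⁻¹ • a, ?_, ?_⟩
    · rw [mul_smul, mul_smul] at h4
      exact (smul_eq_iff_eq_inv_smul k).1 h4
    · rw [mul_smul, mul_smul] at h5
      exact (smul_eq_iff_eq_inv_smul k).1 h5

include hS hH in
theorem card_bad_le {b : Ω} (hab : a ≠ b) {x : G} (hx : orderOf x = 2) :
    (Finset.univ.filter fun y : G => orderOf y = 2 ∧ ¬ ∀ k : G, k * (x * y) * k⁻¹ ∉ H).card ≤
      if Fintype.card Ω % 2 = 1 then Nat.card ↥(stabilizer G a ⊓ stabilizer G b) else 1 := by
  split_ifs with hn
  · obtain ⟨c₀, hc₀⟩ := hS.invol_exists_fix hn hx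
    rw [← hS.card_invol_fix hn hab c₀, Nat.card_eq_fintype_card, Fintype.card_subtype]
    apply Finset.card_le_card
    intro y hy
    simp only [Finset.mem_filter, Finset.mem_univ, true_and, not_forall, not_not] at hy ⊢
    obtain ⟨hy2, k, hk⟩ := hy
    refine ⟨hy2, ?_⟩
    rcases hS.bad_cases hH hx hy2 hk with h | ⟨c, hxc, hyc⟩
    · rw [h]
      exact hc₀
    · have := hS.invol_fix_unique hx hxc hc₀
      rw [← this]
      exact hyc
  · have hn' : Fintype.card Ω % 2 = 0 := by omega
    rw [← Finset.card_singleton x]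
    apply Finset.card_le_card
    intro y hy
    simp only [Finset.mem_filter, Finset.mem_univ, true_and, not_forall, not_not] at hy
    obtain ⟨hy2, k, hk⟩ := hy
    rw [Finset.mem_singleton]
    rcases hS.bad_cases hH hx hy2 hk with h | ⟨c, hxc, -⟩
    · exact h
    · exact absurd hxc (hS.invol_no_fix hn' hx c)

include hS hH in
/-- at least `e` classes miss the kernel -/
theorem classes_ge {b : Ω} (hab : a ≠ b)
    (hlt : 2 * Nat.card ↥(stabilizer G a ⊓ stabilizer G b) + 2 < Fintype.card Ω) :
    Nat.card ↥(stabilizer G a ⊓ stabilizer G b) ≤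
      Nat.card {C : ConjClasses G // ∀ g : G, ConjClasses.mk g = C → g ∉ H} := by
  have hP := hS.pre
  obtain ⟨p, hp⟩ : ∃ p : G → Prop, ∀ z, p z ↔ ∀ k : G, k * z * k⁻¹ ∉ H := ⟨_, fun z => Iff.rfl⟩
  have hpinv : ∀ g x : G, p x → p (g * x * g⁻¹) := by
    intro g x hx
    rw [hp] at hx ⊢
    intro k
    have : k * (g * x * g⁻¹) * k⁻¹ = (k * g) * x * (k * g)⁻¹ := by group
    rw [this]
    exact hx (k * g)
  have hsub : Nat.card {C : ConjClasses G // ∀ g : G, ConjClasses.mk g = C → g ∉ H} =
      Nat.card {C : ConjClasses G // ∀ g : G, ConjClasses.mk g = C → p g} := by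
    refine Nat.card_congr (Equiv.subtypeEquivRight fun C => ?_)
    constructor
    · intro h g hg
      rw [hp]
      intro k
      apply h
      rw [← hg, ConjClasses.mk_eq_mk_iff_isConj, isConj_iff]
      exact ⟨k⁻¹, by group⟩
    · intro h g hg
      have := (hp g).1 (h g hg) 1
      simpa using this
  rw [hsub]
  have h1 := sum_card_centralizer_filter p hpinv
  set ε := if Fintype.card Ω % 2 = 1 then Nat.card ↥(stabilizer G a ⊓ stabilizer G b) else 1
    with hε
  have h2 := sum_rInv_ge p ε (fun x hx => by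
    have := hS.card_bad_le hH hab hx
    refine le_trans (Finset.card_le_card ?_) this
    intro y hy
    simp only [Finset.mem_filter, Finset.mem_univ, true_and, hp] at hy ⊢
    exact hy)
  have h3 : ∑ z ∈ Finset.univ.filter p, rInv z ≤
      ∑ z ∈ Finset.univ.filter p, Nat.card (Subgroup.centralizer ({z} : Set G)) :=
    Finset.sum_le_sum fun z _ => rInv_le z
  have h4 := h2.trans (h3.trans_eq h1)
  have h5 := card_eq hP a b hab
  rw [Nat.card_eq_fintype_card (α := Ω)] at h5
  have h6 := hS.card_invol_mul hab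
  have hn := three_le_card hP
  set n := Fintype.card Ω
  set e := Nat.card ↥(stabilizer G a ⊓ stabilizer G b)
  set I := Nat.card {x : G // orderOf x = 2}
  set k := Nat.card {C : ConjClasses G // ∀ g : G, ConjClasses.mk g = C → p g}
  have hepos : 0 < e := Nat.card_pos
  rw [h5] at h4
  by_cases hodd : n % 2 = 1
  · rw [hodd] at h6
    rw [hε, if_pos hodd] at h4
    have h7 : I = n * e := by
      have : I * (n - 1) = (n * e) * (n - 1) := by rw [h6]; ring
      exact Nat.eq_of_mul_eq_mul_right (by omega) this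
    rw [h7] at h4
    have h8 : n * e - e = (n - 1) * e := by
      rw [Nat.sub_mul, one_mul]
    rw [h8] at h4
    have h9 : e * (n * (n - 1) * e) ≤ k * (n * (n - 1) * e) := by
      calc e * (n * (n - 1) * e) = n * e * ((n - 1) * e) := by ring
        _ ≤ k * (n * (n - 1) * e) := h4
    exact Nat.le_of_mul_le_mul_right h9
      (Nat.mul_pos (Nat.mul_pos (by omega) (by omega)) hepos)
  · have hev : n % 2 = 0 := by omega
    rw [hev, Nat.sub_zero] at h6
    rw [hε, if_neg hodd] at h4
    have h7 : I = (n - 1) * e := by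
      have : I * n = ((n - 1) * e) * n := by rw [h6]; ring
      exact Nat.eq_of_mul_eq_mul_right (by omega) this
    rw [h7] at h4
    by_contra hcon
    push Not at hcon
    -- k ≤ e - 1
    obtain ⟨m, hm⟩ : ∃ m, n = m + 3 := ⟨n - 3, by omega⟩
    obtain ⟨e', he'⟩ : ∃ e', e = e' + 1 := ⟨e - 1, by omega⟩
    rw [hm, he'] at h4
    simp only [show m + 3 - 1 = m + 2 by omega] at h4
    have hk : k ≤ e' := by omega
    have h8 : (m + 2) * (e' + 1) - 1 = (m + 2) * e' + (m + 1) := by
      have : (m + 2) * (e' + 1) = (m + 2) * e' + (m + 1) + 1 := by ring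
      omega
    rw [h8] at h4
    have h9 : k * ((m + 3) * (m + 2) * (e' + 1)) ≤ e' * ((m + 3) * (m + 2) * (e' + 1)) :=
      Nat.mul_le_mul_right _ hk
    have h10 := h4.trans h9
    have h11 : (m + 2) * (e' + 1) * ((m + 2) * e' + (m + 1)) =
        ((m + 2) * e' + (m + 1)) * ((m + 2) * (e' + 1)) := by ring
    have h12 : e' * ((m + 3) * (m + 2) * (e' + 1)) = (e' * (m + 3)) * ((m + 2) * (e' + 1)) := by ring
    rw [h11, h12] at h10
    have h13 := Nat.le_of_mul_le_mul_right h10 (by positivity)
    -- (m+2) e' + m + 1 ≤ e' (m+3), i.e. m + 1 ≤ e'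
    have h14 : m + 1 ≤ e' := by nlinarith
    omega

end OddSimple

end Cfsg.Agent.Lib.H4.Feit
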