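import Mathlib
import Cfsg.Agent.Lib.H4.Feit.Classes
import Cfsg.Agent.Lib.H4.Zas.Main
import Cfsg.Agent.Lib.H4.Zas.PSLOdd

/-!
# Simple Zassenhaus groups with two point stabilizers of odd order `e` and degree `2 e + 2` are
projective special linear groups
-/

set_option autoImplicit false
set_option linter.unusedSectionVars false

namespace Cfsg.Agent.Lib.H4.Feit

open MulAction Cfsg Cfsg.Agent.Lib.H2.Zass Cfsg.Agent.Lib.H4.Zas

universe u v

theorem OddSimple.nonempty_PSL_card {G : Type u} {Ω : Type v} [Group G] [Fintype G]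
    [MulAction G Ω] [Fintype Ω] (hS : OddSimple G Ω) {a b : Ω} (hab : a ≠ b)
    (hd : Fintype.card Ω = 2 * Nat.card ↥(stabilizer G a ⊓ stabilizer G b) + 2) :
    ∃ (L : Type u) (_ : Field L) (_ : Fintype L), Fintype.card L + 1 = Fintype.card Ω ∧
      ringChar L ≠ 2 ∧ Nonempty (G ≃* Matrix.ProjectiveSpecialLinearGroup (Fin 2) L) := by
  classical
  have hZ := hS.zas
  have hP := pre_of_zassenhaus hZ
  have memH : ∀ h : G, h ∈ stabilizer G a ⊓ stabilizer G b ↔ h • a = a ∧ h • b = b := by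
    intro h
    rw [Subgroup.mem_inf, mem_stabilizer_iff, mem_stabilizer_iff]
  have hNatΩ : Nat.card Ω = 2 * Nat.card ↥(stabilizer G a ⊓ stabilizer G b) + 2 := by
    rw [Nat.card_eq_fintype_card]; exact hd
  have hdpos : 0 < Nat.card ↥(stabilizer G a ⊓ stabilizer G b) := Nat.card_pos
  have hn : Fintype.card Ω % 2 = 0 := by omega
  obtain ⟨k₀, hk₀⟩ := hS.odd a b hab
  -- the kernel
  have hKle := K_le_stabilizer hP a
  have hKn : ((K hP a).subgroupOf (stabilizer G a)).Normal := by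
    refine ⟨fun n hn g => ?_⟩
    rw [Subgroup.mem_subgroupOf] at hn ⊢
    show (g : G) * (n : G) * ((g : G))⁻¹ ∈ K hP a
    exact K_conj_mem hP a g.2 hn
  have hreg : ∀ y z : Ω, y ≠ a → z ≠ a → ∃! u : K hP a, (u : G) • y = z := by
    intro y z hy hz
    obtain ⟨u, hu, huy⟩ := K_transitive hP a hy hz
    exact ⟨⟨u, hu⟩, huy, fun v hv =>
      Subtype.ext (K_eq_of_smul_eq hP a v.2 hu hy (hv.trans huy.symm))⟩
  obtain ⟨hKcomm, p, f, hp, hexp, hΩp⟩ :=
    Cfsg.Agent.S0738.result hZ hab (by omega) (K hP a) hKle hKn hreg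
  -- the involution
  obtain ⟨s, hs2, hsa, hsb⟩ := (Cfsg.Agent.S0740.result hZ hab).1
  have hss : s * s = 1 := by
    rw [← pow_two, ← hs2]
    exact pow_orderOf_eq_one s
  have hinv : ∀ h : G, h • a = a → h • b = b → s * h * s⁻¹ = h⁻¹ := fun h ha hb =>
    hS.swap_inv hab hsa hsb ha hb
  -- the two point stabilizer is commutative
  have hHc : ∀ x y : ↥(stabilizer G a ⊓ stabilizer G b), x * y = y * x := by
    intro x y
    apply Subtype.ext
    have hx := (memH _).1 x.2
    have hy := (memH _).1 y.2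
    exact hS.comm_stab hab hx.1 hx.2 hy.1 hy.2
  -- the field
  haveI : Fact p.Prime := ⟨hp⟩
  have hKc : ∀ x y : ↥(K hP a), x * y = y * x := fun x y => mul_comm' x y
  have hexp' : ∀ u : ↥(K hP a), u ^ p = 1 := fun u =>
    Subtype.ext (by rw [Subgroup.coe_pow]; exact hexp u.1 u.2)
  have hfree : ∀ h : ↥(stabilizer G a ⊓ stabilizer G b), ∀ u : ↥(K hP a),
      conjK hP a b h u = u → u ≠ 1 → h = 1 := by
    intro h u hu hu1
    apply Subtype.ext
    have h1 : (h : G) * u * (h : G)⁻¹ = u := by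
      rw [← conjK_coe hP a b h u, hu]
    exact eq_one_of_conj_eq hP a b hab ((memH _).1 h.2).1 ((memH _).1 h.2).2 u.2
      (fun e => hu1 (Subtype.ext e)) h1
  have hcardK : 2 * Nat.card ↥(stabilizer G a ⊓ stabilizer G b) + 1 = Nat.card ↥(K hP a) := by
    have := card_K hP a
    omega
  obtain ⟨c, hca, hcb⟩ : ∃ c : Ω, c ≠ a ∧ c ≠ b := by
    obtain ⟨x, y, hxa, hya, hxy⟩ := exists_two_ne hP a
    by_cases hxb : x = b
    · exact ⟨y, hya, fun h => hxy (hxb.trans h.symm)⟩
    · exact ⟨x, hxa, hxb⟩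
  obtain ⟨u₀, hu₀K, hu₀b⟩ := K_transitive hP a (Ne.symm hab) hca
  have hu₀1 : (⟨u₀, hu₀K⟩ : ↥(K hP a)) ≠ 1 := by
    intro e
    have : u₀ = 1 := congrArg Subtype.val e
    rw [this, one_smul] at hu₀b
    exact hcb hu₀b.symm
  obtain ⟨L, fL, finL, ι, e, he, hadd, hι, he1⟩ :=
    exists_field_of_semiregular hKc hHc p hexp' (conjK hP a b) hfree hcardK ⟨u₀, hu₀K⟩ hu₀1
  have hcardL : Nat.card L = 2 * Nat.card ↥(stabilizer G a ⊓ stabilizer G b) + 1 := by
    rw [hcardK]
    exact Nat.card_eq_of_bijective e he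
  -- properties of `e`
  have he0 : e 0 = 1 := by
    have := hadd 0 0
    rw [add_zero] at this
    exact (mul_eq_left.1 this.symm)
  have heK : ∀ x : L, (e x : G) ∈ K hP a := fun x => (e x).2
  have hefix : ∀ x : L, (e x : G) • a = a := fun x => hKle (heK x)
  have haddG : ∀ x y : L, ((e (x + y) : ↥(K hP a)) : G) = (e x : G) * (e y : G) := by
    intro x y
    rw [hadd, Subgroup.coe_mul]
  -- properties of `ι`
  have hιinj1 : ∀ h, ι h = 1 → h = 1 := by
    intro h hh
    apply hfree h (e 1)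
    · rw [← hι, hh, one_mul]
    · rw [he1]
      exact hu₀1
  have hιinv : ∀ h, ι h⁻¹ = (ι h)⁻¹ := by
    intro h
    apply eq_inv_of_mul_eq_one_left
    rw [← map_mul, inv_mul_cancel, map_one]
  have hι0 : ∀ h, ι h ≠ 0 := by
    intro h h0
    have : ι h⁻¹ * ι h = 1 := by rw [← map_mul, inv_mul_cancel, map_one]
    rw [h0, mul_zero] at this
    exact zero_ne_one this
  have hιinj : Function.Injective ι := by
    intro h h' hh
    have : ι (h * h'⁻¹) = 1 := by
      rw [map_mul, hιinv, hh, mul_inv_cancel₀ (hι0 h')]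
    have := hιinj1 _ this
    exact mul_inv_eq_one.1 this
  -- the action of the two point stabilizer
  have hmultH : ∀ (h : ↥(stabilizer G a ⊓ stabilizer G b)) (x : L),
      (h : G) • (e x : G) • b = (e (ι h * x) : G) • b := by
    intro h x
    rw [hι, conjK_coe, mul_smul, mul_smul]
    have : (h : G)⁻¹ • b = b := by
      rw [inv_smul_eq_iff]
      exact ((memH _).1 h.2).2.symm
    rw [this]
  -- the labelling
  let Pf : Option L → Ω := fun o => Option.elim o a (fun x => (e x : G) • b)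
  have hPf_inj : Function.Injective Pf := by
    intro o o' hoo'
    cases o with
    | none =>
      cases o' with
      | none => rfl
      | some y =>
        exfalso
        have h1 : a = (e y : G) • b := hoo'
        exact K_smul_ne hP a (heK y) (Ne.symm hab) h1.symm
    | some x =>
      cases o' with
      | none =>
        exfalso
        have h1 : (e x : G) • b = a := hoo'
        exact K_smul_ne hP a (heK x) (Ne.symm hab) h1
      | some y =>
        have h1 : (e x : G) • b = (e y : G) • b := hoo'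
        have h2 := K_eq_of_smul_eq hP a (heK x) (heK y) (Ne.symm hab) h1
        rw [he.1 (Subtype.ext h2)]
  have hPf_surj : Function.Surjective Pf := by
    intro z
    by_cases hz : z = a
    · exact ⟨none, hz.symm⟩
    · obtain ⟨u, hu, hub⟩ := K_transitive hP a (Ne.symm hab) hz
      obtain ⟨x, hx⟩ := he.2 ⟨u, hu⟩
      refine ⟨some x, ?_⟩
      show (e x : G) • b = z
      rw [hx]
      exact hub
  let P : Option L ≃ Ω := Equiv.ofBijective Pf ⟨hPf_inj, hPf_surj⟩
  have hPn : P none = a := rfl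
  have hPs : ∀ x : L, P (some x) = (e x : G) • b := fun x => rfl
  have hP0 : P (some 0) = b := by
    rw [hPs, he0, Subgroup.coe_one, one_smul]
  haveI : Fintype L := Fintype.ofFinite L
  have hcardL' : Fintype.card L = 2 * Nat.card ↥(stabilizer G a ⊓ stabilizer G b) + 1 := by
    rw [← Nat.card_eq_fintype_card]; exact hcardL
  have hchar : ringChar L ≠ 2 := by
    intro h2
    have := FiniteField.even_card_of_char_two h2
    omega
  have h2ne : (2 : L) ≠ 0 := Ring.two_ne_zero hchar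
  have hsqι : ∀ h, IsSquare (ι h) := by
    intro h
    rw [FiniteField.isSquare_iff hchar (hι0 h), hcardL']
    have : (2 * Nat.card ↥(stabilizer G a ⊓ stabilizer G b) + 1) / 2 =
        Nat.card ↥(stabilizer G a ⊓ stabilizer G b) := by omega
    rw [this, ← map_pow, pow_card_eq_one', map_one]
  -- the group of multipliers
  obtain ⟨A, hA⟩ : ∃ A : Set L, A = Set.range ι := ⟨_, rfl⟩
  have hA0 : (0 : L) ∉ A := by
    rw [hA]
    rintro ⟨h, hh⟩
    exact hι0 h hh
  have hAmul : ∀ c ∈ A, ∀ c' ∈ A, c * c' ∈ A := by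
    rw [hA]
    rintro _ ⟨h, rfl⟩ _ ⟨h', rfl⟩
    exact ⟨h * h', map_mul ι h h'⟩
  have hAinv : ∀ c ∈ A, c⁻¹ ∈ A := by
    rw [hA]
    rintro _ ⟨h, rfl⟩
    exact ⟨h⁻¹, hιinv h⟩
  have hAcard : 2 * A.ncard + 1 = Nat.card L := by
    rw [hA, ← Nat.card_coe_set_eq, Nat.card_range_of_injective hιinj, hcardL]
  have hAsq : ∀ c ∈ A, IsSquare c := by
    rw [hA]
    rintro _ ⟨h, rfl⟩
    exact hsqι h
  have hneg1 : (-1 : L) ∉ A := by
    rw [hA]
    rintro ⟨h, hh⟩
    have h1 : ι (h * h) = 1 := by rw [map_mul, hh]; ring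
    have h2 := hιinj1 _ h1
    have h3 : h ^ (2 * k₀ + 1) = 1 := by
      rw [← hk₀]
      exact pow_card_eq_one'
    have h4 : h = 1 := by
      rw [pow_succ, pow_mul, pow_two, h2, one_pow, one_mul] at h3
      exact h3
    rw [h4, map_one] at hh
    have : (2 : L) = 0 := by linear_combination hh
    exact h2ne this
  have hAneg : ∀ x : L, x ≠ 0 → x ∉ A → -x ∈ A := by
    intro x hx hxA
    obtain ⟨c, hc, hxc⟩ := exists_mul_of_nonmem A hA0 hAmul hAinv hAcard hneg1
      (by norm_num) hxA hx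
    rw [hxc]
    simpa using hc
  -- the action of `s`
  have hs_ne : ∀ x : L, x ≠ 0 → s • P (some x) ≠ P none := by
    intro x hx h
    have h1 : s • s • P (some x) = s • P none := congrArg (s • ·) h
    rw [← mul_smul, hss, one_smul, hPn, hsa, ← hP0] at h1
    exact hx (Option.some_injective _ (P.injective h1))
  have hσex : ∀ x : L, ∃ y : L, x ≠ 0 → s • P (some x) = P (some y) := by
    intro x
    by_cases hx : x = 0
    · exact ⟨0, fun h => absurd hx h⟩
    · obtain ⟨o, ho⟩ := P.surjective (s • P (some x))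
      cases o with
      | none => exact absurd ho.symm (hs_ne x hx)
      | some y => exact ⟨y, fun _ => ho.symm⟩
  choose σ hσ using hσex
  have hσ0 : ∀ x : L, x ≠ 0 → σ x ≠ 0 := by
    intro x hx h
    have h1 := hσ x hx
    rw [h, hP0] at h1
    have h2 : s • s • P (some x) = s • b := congrArg (s • ·) h1
    rw [← mul_smul, hss, one_smul, hsb, ← hPn] at h2
    have := P.injective h2
    simp at this
  have hσσ : ∀ x : L, x ≠ 0 → σ (σ x) = x := by
    intro x hx
    have h1 := hσ x hx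
    have h2 := hσ (σ x) (hσ0 x hx)
    rw [← h1, ← mul_smul, hss, one_smul] at h2
    exact (Option.some_injective _ (P.injective h2)).symm
  have hσmul : ∀ c ∈ A, ∀ x : L, x ≠ 0 → σ (c * x) = c⁻¹ * σ x := by
    intro c hc x hx
    rw [hA] at hc
    obtain ⟨h, rfl⟩ := hc
    have hh := (memH _).1 h.2
    have hh' := (memH _).1 (h⁻¹).2
    have h1 := hσ (ι h * x) (mul_ne_zero (hι0 h) hx)
    rw [hPs, ← hmultH h x, ← hPs] at h1
    have h2 : s • (h : G) • P (some x) = (s * (h : G) * s⁻¹) • s • P (some x) := by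
      rw [mul_smul, mul_smul, inv_smul_smul]
    rw [h2, hinv _ hh.1 hh.2, hσ x hx, hPs, ← Subgroup.coe_inv, hmultH h⁻¹ (σ x), ← hPs,
      hιinv] at h1
    exact (Option.some_injective _ (P.injective h1)).symm
  obtain ⟨w, hw⟩ : ∃ w : L, w = σ 1 := ⟨_, rfl⟩
  have hw0 : w ≠ 0 := by rw [hw]; exact hσ0 1 one_ne_zero
  have hone : (1 : L) ∈ A := by rw [hA]; exact ⟨1, map_one ι⟩
  have hwA : w ∉ A := by
    intro hwA
    obtain ⟨r, hr⟩ := hAsq w hwA
    have hr0 : r ≠ 0 := by
      rintro rfl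
      rw [mul_zero] at hr
      exact hw0 hr
    -- a square root in `A`
    obtain ⟨r', hr'A, hr'⟩ : ∃ r' ∈ A, r' * r' = w := by
      by_cases hrA : r ∈ A
      · exact ⟨r, hrA, hr.symm⟩
      · exact ⟨-r, hAneg r hr0 hrA, by rw [hr]; ring⟩
    have hr'0 : r' ≠ 0 := fun h => hA0 (h ▸ hr'A)
    have h1 := hσmul r' hr'A 1 one_ne_zero
    rw [mul_one, ← hw, ← hr', ← mul_assoc, inv_mul_cancel₀ hr'0, one_mul] at h1
    have h2 := hσ r' hr'0
    rw [h1] at h2
    exact hS.invol_no_fix hn hs2 _ h2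
  have hnwA : -w ∈ A := hAneg w hw0 hwA
  have hσneg : σ (-1) = -w := by
    have h1 := hσmul (-w) hnwA (-1) (by norm_num)
    have h2 : -w * -1 = w := by ring
    rw [h2, hw, hσσ 1 one_ne_zero, ← hw] at h1
    have hnw0 : -w ≠ 0 := neg_ne_zero.2 hw0
    field_simp at h1
    linear_combination h1
  have hσall : ∀ x : L, x ≠ 0 → σ x = w * x⁻¹ := by
    intro x hx
    by_cases hxA : x ∈ A
    · have := hσmul x hxA 1 one_ne_zero
      rw [mul_one, ← hw] at this
      rw [this, mul_comm]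
    · have hnx := hAneg x hx hxA
      have := hσmul (-x) hnx (-1) (by norm_num)
      have h2 : -x * -1 = x := by ring
      rw [h2, hσneg] at this
      rw [this]
      field_simp
  -- the order of the group
  have hcardG := card_eq hP a b hab
  obtain ⟨d, hd'⟩ : ∃ d : ℕ, d = Nat.card ↥(stabilizer G a ⊓ stabilizer G b) := ⟨_, rfl⟩
  rw [← hd'] at hcardG hcardL' hNatΩ
  have hodd : Odd (Fintype.card L) := ⟨d, hcardL'⟩
  have hcard : 2 * Nat.card G = Fintype.card L * (Fintype.card L ^ 2 - 1) := by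
    rw [hcardG, hNatΩ, hcardL']
    have h1 : (2 * d + 1) ^ 2 - 1 = 4 * d * d + 4 * d := by
      have : (2 * d + 1) ^ 2 = 4 * d * d + 4 * d + 1 := by ring
      omega
    rw [h1, show 2 * d + 2 - 1 = 2 * d + 1 by omega]
    ring
  refine ⟨L, fL, inferInstance, ?_, hchar, ?_⟩
  · rw [hcardL', ← Nat.card_eq_fintype_card (α := Ω), hNatΩ]
  apply nonempty_PSL_of_data' hP.faithful P _ _ s (by rw [hPn, hP0]; exact hsa)
    (by rw [hPn, hP0]; exact hsb) w hw0 _ (hAsq _ hnwA) hodd hcard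
  · intro g hg
    rw [hPn] at hg
    obtain ⟨u, hu, h, hha, hhb, rfl⟩ := exists_K_mul hP a b hab hg
    obtain ⟨y, hy⟩ := he.2 ⟨u, hu⟩
    have hhH : h ∈ stabilizer G a ⊓ stabilizer G b := (memH h).2 ⟨hha, hhb⟩
    refine ⟨ι ⟨h, hhH⟩, y, hsqι _, hι0 _, fun x => ?_⟩
    have h1 := hmultH ⟨h, hhH⟩ x
    simp only at h1
    rw [mul_smul, hPs, h1, ← hPs]
    have h2 : u = (e y : G) := by rw [hy]
    rw [h2, hPs, hPs, ← mul_smul, ← haddG, add_comm]
  · intro y
    refine ⟨(e y : G), by rw [hPn]; exact hefix y, fun x => ?_⟩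
    rw [hPs, hPs, ← mul_smul, ← haddG, add_comm]
  · intro x hx
    rw [hσ x hx, hσall x hx]

theorem OddSimple.nonempty_PSL {G : Type u} {Ω : Type v} [Group G] [Fintype G] [MulAction G Ω]
    [Fintype Ω] (hS : OddSimple G Ω) {a b : Ω} (hab : a ≠ b)
    (hd : Fintype.card Ω = 2 * Nat.card ↥(stabilizer G a ⊓ stabilizer G b) + 2) :
    ∃ (L : Type u) (_ : Field L) (_ : Fintype L), ringChar L ≠ 2 ∧
      Nonempty (G ≃* Matrix.ProjectiveSpecialLinearGroup (Fin 2) L) := by
  obtain ⟨L, fL, ftL, -, h1, h2⟩ := hS.nonempty_PSL_card hab hd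
  exact ⟨L, fL, ftL, h1, h2⟩

end Cfsg.Agent.Lib.H4.Feit
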