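import Cfsg.Agent.Lib.H4.Feit.CohEven

/-!
# Simple Zassenhaus groups with two point stabilizers of odd order and abelian kernel:
`n - 2 ≤ 2 e`
-/

set_option autoImplicit false
set_option linter.unusedSectionVars false

namespace Cfsg.Agent.Lib.H4.Feit

open MulAction Cfsg Cfsg.Agent.Lib.H2.Zass Cfsg.Agent.Lib.H4.Zas Cfsg.Agent.Lib.L0
  Cfsg.Agent.Lib.L0.FrobTI Cfsg.Agent.Lib.H8
open scoped Classical ComplexConjugate

variable {G Ω : Type*} [Group G] [MulAction G Ω] [Fintype G] [Fintype Ω]

namespace OddSimple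

variable (hS : OddSimple G Ω) {H : Subgroup G} {a : Ω} (hH : IsKer H a)

include hS hH in
/-- Feit's inequality for an abelian kernel, simple case -/
theorem abelian_bound {b : Ω} (hab : a ≠ b) (habel : ∀ x ∈ H, ∀ y ∈ H, x * y = y * x) :
    Fintype.card Ω ≤ 2 * Nat.card ↥(stabilizer G a ⊓ stabilizer G b) + 2 := by
  by_contra hlt
  push Not at hlt
  rcases Nat.mod_two_eq_zero_or_one (Fintype.card Ω) with hn | hn
  · obtain ⟨D, ζ₀, -, hcls⟩ := hS.main_count hH hab habel hlt
    have hcount := hS.card_rel_mul hH hab habel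
    obtain ⟨k, hk⟩ := hS.odd a b hab
    apply hS.false_of_even hH hn hab hcls
    obtain ⟨e, he⟩ : ∃ e : ℕ, e = Nat.card ↥(stabilizer G a ⊓ stabilizer G b) := ⟨_, rfl⟩
    rw [← he] at hcount hlt hk ⊢
    obtain ⟨t, ht⟩ : ∃ t : ℕ, t = Nat.card (RelT H) := ⟨_, rfl⟩
    rw [← ht] at hcount
    have ht3 : 3 ≤ t := by
      by_contra hcon
      push Not at hcon
      have : t * e ≤ 2 * e := Nat.mul_le_mul_right _ (by omega)
      omega
    have hteven : t % 2 = 0 := by
      have h1 : (t * e) % 2 = 0 := by omega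
      rw [Nat.mul_mod, hk] at h1
      have : (2 * k + 1) % 2 = 1 := by omega
      rw [this] at h1
      rcases Nat.mod_two_eq_zero_or_one t with h | h
      · exact h
      · rw [h] at h1
        simp at h1
    have ht4 : 4 ≤ t := by omega
    have : 4 * e ≤ t * e := Nat.mul_le_mul_right _ ht4
    omega
  · exact hS.false_of_odd hH hn hab habel hlt

end OddSimple

end Cfsg.Agent.Lib.H4.Feit
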