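import Mathlib
import Cfsg.Agent.Lib.H4.Feit.AbelianSimple

/-!
# Reduction of Feit's inequality for Zassenhaus groups with abelian kernel to the simple case
-/

set_option autoImplicit false
set_option linter.unusedSectionVars false

namespace Cfsg.Agent.Lib.H4.Feit

open MulAction Cfsg Cfsg.Agent.Lib.H2.Zass Cfsg.Agent.Lib.H2.FrobAct Cfsg.Agent.Lib.H4.Zas
open scoped Pointwise

namespace Reduce

variable {G Ω : Type*} [Group G] [MulAction G Ω]

/-- the converse of `pre_of_zassenhaus`, `noReg_of_zassenhaus` -/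
theorem zassenhaus_of_pre (hP : Pre G Ω) (hR : NoReg G Ω) : IsZassenhausGroup G Ω := by
  refine ⟨⟨?_⟩, ?_, hP.three, hP.fix, ?_⟩
  · intro g h hgh
    have : g⁻¹ * h = 1 :=
      hP.faithful _ (fun x => by rw [mul_smul, ← hgh x, inv_smul_smul])
    exact (inv_mul_eq_one.1 this)
  · rw [is_two_pretransitive_iff]
    intro a b c d hab hcd
    exact hP.two a b c d hab hcd
  · intro N hN htr
    obtain ⟨a, u, hu, hu1, hua⟩ := hR N hN (fun x y => by
      obtain ⟨g, hg⟩ := htr.exists_smul_eq x y
      exact ⟨g, g.2, hg⟩)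
    refine ⟨a, ?_⟩
    intro hbot
    have : (⟨u, hu⟩ : N) ∈ stabilizer N a := hua
    rw [hbot, Subgroup.mem_bot] at this
    exact hu1 (congrArg Subtype.val this)

variable [Finite Ω] (hP : Pre G Ω)

/-- conjugates of the kernels are kernels -/
theorem K_conj_smul (a : Ω) (g : G) {u : G} (hu : u ∈ K hP a) :
    g * u * g⁻¹ ∈ K hP (g • a) := by
  rw [mem_K_iff] at hu ⊢
  refine ⟨by rw [mul_smul, mul_smul, inv_smul_smul, hu.1], ?_⟩
  rcases hu.2 with h1 | h1
  · left
    rw [h1]
    group
  · right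
    intro y hy hfix
    apply h1 (g⁻¹ • y)
    · intro h
      apply hy
      rw [inv_smul_eq_iff] at h
      exact h
    · rw [mul_smul, mul_smul] at hfix
      exact (smul_eq_iff_eq_inv_smul g).1 hfix

theorem normalClosure_le_of_K_le (a₀ : Ω) (T : Subgroup G) (hT : ∀ c, K hP c ≤ T) :
    Subgroup.normalClosure (K hP a₀ : Set G) ≤ T := by
  rw [Subgroup.normalClosure, Subgroup.closure_le]
  intro x hx
  rw [Group.mem_conjugatesOfSet_iff] at hx
  obtain ⟨u, hu, hux⟩ := hx
  rw [isConj_iff] at hux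
  obtain ⟨g, rfl⟩ := hux
  exact hT (g • a₀) (K_conj_smul hP a₀ g hu)

theorem K_sub_iff (N : Subgroup G) (hP₀ : Pre N Ω) (c : Ω) (v : N) :
    v ∈ K hP₀ c ↔ (v : G) ∈ K hP c := by
  rw [mem_K_iff, mem_K_iff]
  constructor
  · rintro ⟨h1, h2⟩
    refine ⟨h1, ?_⟩
    rcases h2 with h | h
    · left
      rw [h]
      rfl
    · right
      exact h
  · rintro ⟨h1, h2⟩
    refine ⟨h1, ?_⟩
    rcases h2 with h | h
    · left
      exact Subtype.ext h
    · right
      exact h

variable (N : Subgroup G) [hN : N.Normal] (hR : NoReg G Ω) (hne : N ≠ ⊥)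

include hP hR hne in
theorem pre_normal : Pre N Ω where
  faithful := by
    intro g hg
    exact Subtype.ext (hP.faithful (g : G) hg)
  two := by
    intro a b c d hab hcd
    obtain ⟨g, hgN, hga⟩ := normal_transitive hP N hne a c
    have hgb : g • b ≠ c := by
      rw [← hga]
      intro h
      exact hab (smul_left_cancel g h).symm
    obtain ⟨u, hu, hud⟩ := K_transitive hP c hgb (Ne.symm hcd)
    have huN := K_le_normal hP N hR hne c hu
    have huc : u • c = c := K_le_stabilizer hP c hu
    refine ⟨⟨u * g, N.mul_mem huN hgN⟩, ?_, ?_⟩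
    · show (u * g) • a = c
      rw [mul_smul, hga, huc]
    · show (u * g) • b = d
      rw [mul_smul, hud]
  three := by
    intro g a b c hab hbc hac ha hb hc
    exact Subtype.ext (hP.three (g : G) a b c hab hbc hac ha hb hc)
  fix := by
    by_contra hcon
    push Not at hcon
    have hfrob : IsFrobAct N (Set.univ : Set Ω) :=
      { inv := fun _ _ _ => Set.mem_univ _
        trans := by
          intro x _ y _
          obtain ⟨u, hu, huxy⟩ := normal_transitive hP N hne x y
          exact ⟨⟨u, hu⟩, huxy⟩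
        stab_ne := by
          intro x _
          obtain ⟨u, hu, hu1, hux⟩ := exists_mem_ne_one_fix hP N hR hne x
          exact ⟨⟨u, hu⟩, fun h => hu1 (congrArg Subtype.val h), hux⟩
        two := by
          intro x _ y _ hxy u hux huy
          by_contra hu1
          exact hcon u hu1 x y hxy hux huy
        nontriv := by
          obtain ⟨p, q, r, hpq, -, -⟩ := exists_three hP
          exact ⟨p, Set.mem_univ _, q, Set.mem_univ _, hpq⟩ }
    obtain ⟨M, hMn, hMt, hMr⟩ := exists_regular_normal_of_frobAct hP N hfrob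
    obtain ⟨b, u, hu, hu1, hub⟩ := hR M hMn hMt
    exact hu1 (hMr u hu b hub)

include hR hne in
theorem noReg_normal (hgen : ∀ T : Subgroup G, (∀ c, K hP c ≤ T) → N ≤ T) : NoReg N Ω := by
  have hP₀ := pre_normal hP N hR hne
  intro M hM htr
  by_contra hcon
  push Not at hcon
  obtain ⟨g₀, hg₀1, c, d, hcd, hg₀c, hg₀d⟩ := hP₀.fix
  have hT : ∀ c', K hP c' ≤ (M ⊔ (K hP c).subgroupOf N).map N.subtype := by
    intro c' x hx
    have hxN : x ∈ N := K_le_normal hP N hR hne c' hx
    obtain ⟨m, hm, hmc⟩ := htr c c'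
    have hy : (m : G)⁻¹ * x * ((m : G)⁻¹)⁻¹ ∈ K hP c := by
      have := K_conj_smul hP c' (m : G)⁻¹ hx
      rwa [show (m : G)⁻¹ • c' = c from by rw [inv_smul_eq_iff]; exact hmc.symm] at this
    refine ⟨m * ⟨_, N.mul_mem (N.mul_mem (N.inv_mem m.2) hxN) (N.inv_mem (N.inv_mem m.2))⟩ * m⁻¹,
      ?_, ?_⟩
    · exact Subgroup.mul_mem _ (Subgroup.mul_mem _ (Subgroup.mem_sup_left hm)
        (Subgroup.mem_sup_right (Subgroup.mem_subgroupOf.2 hy)))
        (Subgroup.inv_mem _ (Subgroup.mem_sup_left hm))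
    · simp only [Subgroup.subtype_apply, Subgroup.coe_mul, Subgroup.coe_inv]
      group
  obtain ⟨w, hw, hwg⟩ := hgen _ hT g₀.2
  have hwg' : w = g₀ := Subtype.ext hwg
  rw [hwg'] at hw
  have hw' : (g₀ : N) ∈ (M : Set N) * (((K hP c).subgroupOf N : Subgroup N) : Set N) := by
    rw [← Subgroup.normal_mul]
    exact hw
  obtain ⟨m, hm, k, hk, hmk⟩ := Set.mem_mul.1 hw'
  have hkK : (k : G) ∈ K hP c := Subgroup.mem_subgroupOf.1 hk
  have hkc : k • c = c := K_le_stabilizer hP c hkK
  have hmc : m • c = c := by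
    have : (m * k) • c = c := by rw [hmk]; exact hg₀c
    rw [mul_smul, hkc] at this
    exact this
  have hm1 : m = 1 := by
    by_contra h
    exact hcon c m hm h hmc
  rw [hm1, one_mul] at hmk
  rw [← hmk] at hg₀d hg₀1
  have : (k : G) = 1 := K_eq_one_of_fix hP c hkK (Ne.symm hcd) hg₀d
  exact hg₀1 (Subtype.ext this)

include hR hne in
theorem simple_normal (hgen : ∀ T : Subgroup G, (∀ c, K hP c ≤ T) → N ≤ T) : IsSimpleGroup N := by
  have hP₀ := pre_normal hP N hR hne
  have hR₀ := noReg_normal hP N hR hne hgen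
  refine { exists_pair_ne := ?_, eq_bot_or_eq_top_of_normal := ?_ }
  · obtain ⟨u, hu1⟩ := (Subgroup.ne_bot_iff_exists_ne_one).1 hne
    exact ⟨u, 1, hu1⟩
  · intro M hM
    by_cases hM0 : M = ⊥
    · left
      exact hM0
    · right
      rw [eq_top_iff]
      intro x _
      have hT : ∀ c, K hP c ≤ M.map N.subtype := by
        intro c u hu
        have huN : u ∈ N := K_le_normal hP N hR hne c hu
        have h1 : (⟨u, huN⟩ : N) ∈ K hP₀ c := (K_sub_iff hP N hP₀ c _).2 hu
        exact ⟨⟨u, huN⟩, K_le_normal hP₀ M hR₀ hM0 c h1, rfl⟩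
      obtain ⟨y, hy, hyx⟩ := hgen _ hT x.2
      have : y = x := Subtype.ext hyx
      rwa [this] at hy

omit hN in
include hP in
theorem three_le_natCard : 3 ≤ Nat.card Ω := by
  classical
  haveI : Fintype Ω := Fintype.ofFinite Ω
  obtain ⟨p, q, r, hpq, hqr, hpr⟩ := exists_three hP
  rw [Nat.card_eq_fintype_card]
  have h1 : ({p, q, r} : Finset Ω).card = 3 := by
    rw [Finset.card_insert_of_notMem, Finset.card_insert_of_notMem, Finset.card_singleton]
    · simpa using hqr
    · simp only [Finset.mem_insert, Finset.mem_singleton, not_or]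
      exact ⟨hpq, hpr⟩
  rw [← h1]
  exact Finset.card_le_univ _

end Reduce

open Reduce in
/-- Feit's inequality for a Zassenhaus group with two point stabilizers of odd order and abelian
kernel, together with the simplicity of the group in the case of equality -/
theorem feit_bound {G Ω : Type*} [Group G] [MulAction G Ω] [Finite G] [Finite Ω]
    (hP : Pre G Ω) (hR : NoReg G Ω) {a b : Ω} (hab : a ≠ b)
    (hodd : Odd (Nat.card ↥(stabilizer G a ⊓ stabilizer G b)))
    (habel : ∀ x ∈ K hP a, ∀ y ∈ K hP a, x * y = y * x) :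
    Nat.card Ω ≤ 2 * Nat.card ↥(stabilizer G a ⊓ stabilizer G b) + 2 ∧
      (Nat.card Ω = 2 * Nat.card ↥(stabilizer G a ⊓ stabilizer G b) + 2 → IsSimpleGroup G) := by
  classical
  haveI : Fintype Ω := Fintype.ofFinite Ω
  obtain ⟨N, hNdef⟩ : ∃ N : Subgroup G, N = Subgroup.normalClosure (K hP a : Set G) := ⟨_, rfl⟩
  haveI hN : N.Normal := by
    rw [hNdef]
    exact Subgroup.normalClosure_normal
  have hKN : K hP a ≤ N := by
    rw [hNdef]
    exact Subgroup.subset_normalClosure
  have hne : N ≠ ⊥ := by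
    intro h
    have h1 := card_K hP a
    have h2 : K hP a = ⊥ := by
      rw [eq_bot_iff, ← h]
      exact hKN
    have h3 : Nat.card (⊥ : Subgroup G) = 1 := by simp
    rw [h2, h3] at h1
    have := three_le_natCard hP
    omega
  have hgen : ∀ T : Subgroup G, (∀ c, K hP c ≤ T) → N ≤ T := by
    intro T hT
    rw [hNdef]
    exact normalClosure_le_of_K_le hP a T hT
  have hP₀ := pre_normal hP N hR hne
  have hR₀ := noReg_normal hP N hR hne hgen
  haveI := simple_normal hP N hR hne hgen
  have hZ₀ := zassenhaus_of_pre hP₀ hR₀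
  haveI : Fintype N := Fintype.ofFinite N
  -- comparison of the two point stabilizers
  have hmem : ∀ g : N, g ∈ stabilizer N a ⊓ stabilizer N b ↔
      (g : G) ∈ stabilizer G a ⊓ stabilizer G b := by
    intro g
    rw [Subgroup.mem_inf, Subgroup.mem_inf, mem_stabilizer_iff, mem_stabilizer_iff,
      mem_stabilizer_iff, mem_stabilizer_iff]
    rfl
  let φ : ↥(stabilizer N a ⊓ stabilizer N b) →* ↥(stabilizer G a ⊓ stabilizer G b) :=
    { toFun := fun g => ⟨((g : N) : G), (hmem g).1 g.2⟩
      map_one' := rfl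
      map_mul' := fun _ _ => rfl }
  have hφ : Function.Injective φ := by
    intro x y hxy
    apply Subtype.ext
    apply Subtype.ext
    exact congrArg (fun z : ↥(stabilizer G a ⊓ stabilizer G b) => (z : G)) hxy
  have hdvd : Nat.card ↥(stabilizer N a ⊓ stabilizer N b) ∣
      Nat.card ↥(stabilizer G a ⊓ stabilizer G b) := Subgroup.card_dvd_of_injective φ hφ
  have hodd₀ : Odd (Nat.card ↥(stabilizer N a ⊓ stabilizer N b)) := Odd.of_dvd_nat hodd hdvd
  have hS₀ := oddSimple_of hZ₀ hab hodd₀
  have hH₀ : IsKer ((K hP a).subgroupOf N) a :=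
    { le := by
        intro u hu
        rw [mem_stabilizer_iff]
        exact K_le_stabilizer hP a (Subgroup.mem_subgroupOf.1 hu)
      card := by
        rw [Nat.card_congr (Subgroup.subgroupOfEquivOfLe hKN).toEquiv, card_K hP a,
          Nat.card_eq_fintype_card]
      fix := by
        intro u hu hu1 c hc
        by_contra hca
        apply hu1
        exact Subtype.ext (K_eq_one_of_fix hP a (Subgroup.mem_subgroupOf.1 hu) hca hc) }
  have habel₀ : ∀ x ∈ (K hP a).subgroupOf N, ∀ y ∈ (K hP a).subgroupOf N, x * y = y * x := by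
    intro x hx y hy
    exact Subtype.ext (habel _ (Subgroup.mem_subgroupOf.1 hx) _ (Subgroup.mem_subgroupOf.1 hy))
  have hb := hS₀.abelian_bound hH₀ hab habel₀
  rw [← Nat.card_eq_fintype_card] at hb
  have hle : Nat.card ↥(stabilizer N a ⊓ stabilizer N b) ≤
      Nat.card ↥(stabilizer G a ⊓ stabilizer G b) := Nat.le_of_dvd Nat.card_pos hdvd
  refine ⟨by omega, fun heq => ?_⟩
  have hcard : Nat.card ↥(stabilizer N a ⊓ stabilizer N b) =
      Nat.card ↥(stabilizer G a ⊓ stabilizer G b) := by omega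
  have hsurj : Function.Surjective φ := by
    have hbij : Function.Bijective φ := by
      rw [Nat.bijective_iff_injective_and_card]
      exact ⟨hφ, hcard⟩
    exact hbij.2
  have htop : N = ⊤ := by
    rw [eq_top_iff]
    intro g _
    obtain ⟨t, hta, htb⟩ := hP₀.two a b (g • a) (g • b) hab
      (fun h => hab (smul_left_cancel g h))
    have h1 : ((t : G))⁻¹ * g ∈ stabilizer G a ⊓ stabilizer G b := by
      rw [Subgroup.mem_inf, mem_stabilizer_iff, mem_stabilizer_iff, mul_smul, mul_smul,
        inv_smul_eq_iff, inv_smul_eq_iff]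
      exact ⟨hta.symm, htb.symm⟩
    obtain ⟨w, hw⟩ := hsurj ⟨_, h1⟩
    have h2 : ((w : N) : G) = ((t : G))⁻¹ * g := congrArg Subtype.val hw
    have h3 : g = (t : G) * ((w : N) : G) := by
      rw [h2]
      group
    rw [h3]
    exact N.mul_mem t.2 (w : N).2
  have key : ∀ N : Subgroup G, N = ⊤ → IsSimpleGroup N → IsSimpleGroup G := by
    rintro N rfl h
    exact (Subgroup.topEquiv (G := G)).symm.isSimpleGroup
  exact key N htop inferInstance

end Cfsg.Agent.Lib.H4.Feit
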