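import Mathlib
import Cfsg.Agent.S0741
import Cfsg.Agent.S0742
import Cfsg.Agent.Lib.H4.Feit.Reduce
import Cfsg.Agent.Lib.H4.Feit.OddPSL
import Cfsg.Agent.Lib.H21.OrbitCount

/-!
# Zassenhaus groups with an abelian kernel: the order of the two point stabilizer and the
identification with `PSL₂`
-/

set_option autoImplicit false
set_option linter.unusedSectionVars false

namespace Cfsg.Agent.Lib.H4.Feit

open MulAction Cfsg Cfsg.Agent.Lib.H2.Zass Cfsg.Agent.Lib.H4.Zas

/-- a Zassenhaus group of degree `n` whose point stabilizer has an abelian regular normal subgroup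
has two point stabilizers of order `n - 2` or `(n - 2) / 2`, and in the second case it is
`PSL₂(K)` with `|K| = n - 1` odd -/
theorem zassenhaus_abelian_kernel {G Ω : Type*} [Group G] [Finite G] [MulAction G Ω] [Finite Ω]
    (hZ : IsZassenhausGroup G Ω) {x b : Ω} (hab : x ≠ b) (F : Subgroup G)
    (hFle : F ≤ stabilizer G x) (hFab : ∀ u ∈ F, ∀ v ∈ F, u * v = v * u)
    (hreg : ∀ y z : Ω, y ≠ x → z ≠ x → ∃! u : F, (u : G) • y = z) :
    Nat.card ↥(stabilizer G x ⊓ stabilizer G b) = Nat.card Ω - 2 ∨
      (2 * Nat.card ↥(stabilizer G x ⊓ stabilizer G b) = Nat.card Ω - 2 ∧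
        ∃ (K : Type) (_ : Field K) (_ : Fintype K), Fintype.card K + 1 = Nat.card Ω ∧
          ringChar K ≠ 2 ∧ Nonempty (G ≃* Matrix.ProjectiveSpecialLinearGroup (Fin 2) K)) := by
  classical
  haveI : Fintype Ω := Fintype.ofFinite Ω
  haveI : Fintype G := Fintype.ofFinite G
  have hP := pre_of_zassenhaus hZ
  have hR := noReg_of_zassenhaus hZ
  have hb : b ≠ x := Ne.symm hab
  have hn3 : 3 ≤ Nat.card Ω := Reduce.three_le_natCard hP
  -- `F` is the kernel
  have hFker : IsKer F x :=
    { le := hFle
      card := by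
        let f : F → {w : Ω // w ≠ x} := fun u =>
          ⟨(u : G) • b, by
            intro e
            have hu : (u : G) • x = x := hFle u.2
            exact hb (smul_left_cancel (u : G) (e.trans hu.symm))⟩
        have hf : Function.Bijective f := by
          constructor
          · intro u v huv
            have e1 : (u : G) • b = (v : G) • b := congrArg Subtype.val huv
            obtain ⟨w, -, hw⟩ := hreg b ((v : G) • b) hb (by
              intro e
              have hv : (v : G) • x = x := hFle v.2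
              exact hb (smul_left_cancel (v : G) (e.trans hv.symm)))
            rw [hw u e1, hw v rfl]
          · rintro ⟨z, hz⟩
            obtain ⟨u, hu, -⟩ := hreg b z hb hz
            exact ⟨u, Subtype.ext hu⟩
        have h1 : Nat.card F = Nat.card {w : Ω // w ≠ x} := Nat.card_congr (Equiv.ofBijective f hf)
        have h5 : {w : Ω | w ≠ x} = ({x} : Set Ω)ᶜ := by
          ext w
          simp
        have h6 := Set.ncard_compl_add_ncard ({x} : Set Ω)
        rw [Set.ncard_singleton, ← h5] at h6
        have h7 : Nat.card {w : Ω // w ≠ x} = {w : Ω | w ≠ x}.ncard := rfl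
        rw [← Nat.card_eq_fintype_card]
        omega
      fix := by
        intro u hu hu1 c hc
        by_contra hcx
        obtain ⟨w, -, hw⟩ := hreg c c hcx hcx
        have e1 := hw ⟨u, hu⟩ hc
        have e2 := hw 1 (one_smul _ _)
        apply hu1
        have : (⟨u, hu⟩ : F) = 1 := e1.trans e2.symm
        exact congrArg Subtype.val this }
  have hFK : F = K hP x := hFker.eq_K hP
  have habel : ∀ u ∈ K hP x, ∀ v ∈ K hP x, u * v = v * u := by
    rw [← hFK]
    exact hFab
  have memH : ∀ h : G, h ∈ stabilizer G x ⊓ stabilizer G b ↔ h • x = x ∧ h • b = b := by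
    intro h
    rw [Subgroup.mem_inf, mem_stabilizer_iff, mem_stabilizer_iff]
  -- `e` divides `n - 2`
  have hdvd : Nat.card ↥(stabilizer G x ⊓ stabilizer G b) ∣ Nat.card Ω - 2 := by
    let X : Set Ω := {y | y ≠ x ∧ y ≠ b}
    have hXinv : ∀ g : ↥(stabilizer G x ⊓ stabilizer G b), ∀ y ∈ X, g • y ∈ X := by
      intro g y hy
      have hg := (memH _).1 g.2
      constructor
      · intro e
        exact hy.1 (smul_left_cancel (g : G) (e.trans hg.1.symm))
      · intro e
        exact hy.2 (smul_left_cancel (g : G) (e.trans hg.2.symm))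
    have hXfree : ∀ y ∈ X, stabilizer ↥(stabilizer G x ⊓ stabilizer G b) y = ⊥ := by
      intro y hy
      rw [eq_bot_iff]
      intro g hg
      rw [Subgroup.mem_bot]
      have hg' := (memH _).1 g.2
      have e : (g : G) • y = y := hg
      exact Subtype.ext (hP.three _ x b y hab (Ne.symm hy.2) (Ne.symm hy.1) hg'.1 hg'.2 e)
    have h1 := Cfsg.Agent.Lib.H21.card_dvd_ncard_of_free X (Set.toFinite X) hXinv hXfree
    have h5 : X = ({x, b} : Set Ω)ᶜ := by
      ext y
      simp [X]
    have h6 := Set.ncard_compl_add_ncard ({x, b} : Set Ω)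
    rw [Set.ncard_pair hab, ← h5] at h6
    have : X.ncard = Nat.card Ω - 2 := by omega
    rwa [this] at h1
  obtain ⟨e, he⟩ : ∃ e : ℕ, e = Nat.card ↥(stabilizer G x ⊓ stabilizer G b) := ⟨_, rfl⟩
  have hepos : 0 < e := by rw [he]; exact Nat.card_pos
  -- the inequality `n - 2 ≤ 2 e`
  have hbound : Nat.card Ω - 2 ≤ 2 * e ∧ (Nat.card Ω - 2 = 2 * e →
      ∃ (K : Type) (_ : Field K) (_ : Fintype K), Fintype.card K + 1 = Nat.card Ω ∧
        ringChar K ≠ 2 ∧ Nonempty (G ≃* Matrix.ProjectiveSpecialLinearGroup (Fin 2) K)) := by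
    rcases Nat.even_or_odd e with heven | hodd
    · rw [he] at heven
      have h1 := Cfsg.Agent.S0741.result hZ hab heven
      rw [← Nat.card_eq_fintype_card, ← he] at h1
      refine ⟨h1, fun heq => ?_⟩
      have h2 : 2 * Nat.card ↥(stabilizer G x ⊓ stabilizer G b) ≤ Fintype.card Ω - 2 := by
        rw [← Nat.card_eq_fintype_card, ← he]
        omega
      obtain ⟨p, f, K, fK, ftK, hp, hp2, hKcard, hΩcard, hiso⟩ :=
        Cfsg.Agent.S0742.result hZ hab heven h2
      refine ⟨K, fK, ftK, ?_, ?_, hiso⟩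
      · rw [hKcard, Nat.card_eq_fintype_card, hΩcard]
      · intro hch
        have h3 := FiniteField.even_card_of_char_two hch
        rw [hKcard] at h3
        have h4 : 2 ∣ p ^ f := Nat.dvd_of_mod_eq_zero h3
        have h5 : 2 ∣ p := Nat.Prime.dvd_of_dvd_pow Nat.prime_two h4
        exact hp2 ((Nat.prime_dvd_prime_iff_eq Nat.prime_two hp).1 h5).symm
    · rw [he] at hodd
      obtain ⟨h1, h2⟩ := feit_bound hP hR hab hodd habel
      rw [← he] at h1 h2
      refine ⟨by omega, fun heq => ?_⟩
      haveI : IsSimpleGroup G := h2 (by omega)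
      have hS := oddSimple_of hZ hab hodd
      have hd : Fintype.card Ω = 2 * Nat.card ↥(stabilizer G x ⊓ stabilizer G b) + 2 := by
        rw [← Nat.card_eq_fintype_card, ← he]
        omega
      obtain ⟨L, fL, ftL, hLcard, hL2, ⟨φ⟩⟩ := hS.nonempty_PSL_card hab hd
      obtain ⟨K, fK, ftK, hKcard, ⟨ψ⟩⟩ := Cfsg.Agent.S0742.exists_small_field (L := L)
      obtain ⟨ψ'⟩ := nonempty_PSL_congr (n := Fin 2) ψ
      refine ⟨K, fK, ftK, ?_, ?_, ⟨φ.trans ψ'⟩⟩
      · rw [hKcard, hLcard, Nat.card_eq_fintype_card]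
      · intro hch
        have h3 := FiniteField.even_card_of_char_two hch
        rw [hKcard] at h3
        exact hL2 (FiniteField.even_card_iff_char_two.2 h3)
  obtain ⟨k, hk⟩ := hdvd
  rw [← he] at hk ⊢
  have hk2 : k ≤ 2 := by
    by_contra hcon
    push Not at hcon
    have : e * 3 ≤ e * k := Nat.mul_le_mul_left _ hcon
    omega
  have hk0 : k ≠ 0 := by
    rintro rfl
    omega
  rcases (by omega : k = 1 ∨ k = 2) with rfl | rfl
  · left
    omega
  · right
    exact ⟨by omega, hbound.2 (by omega)⟩

end Cfsg.Agent.Lib.H4.Feit
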