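import Cfsg.Agent.Lib.H4.Feit.CountIrr

/-!
# Abelian T.I. subgroup with Frobenius normalizer: the number of classes meeting the subgroup
-/

set_option autoImplicit false
set_option linter.unusedSectionVars false

namespace Cfsg.Agent.Lib.H4.Feit

open Cfsg Cfsg.Agent.Lib.L0 Cfsg.Agent.Lib.L0.FrobTI Cfsg.Agent.Lib.H8
open scoped Classical

variable {G : Type*} [Group G] [Fintype G] {K : Subgroup G} [Fintype (nz K)]

/-- the intersection of a class with `K` is small -/
theorem card_class_inter_le (h : FrobTI K) (hab : ∀ a ∈ K, ∀ b ∈ K, a * b = b * a) {u : G}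
    (hu : u ∈ K) (hu1 : u ≠ 1) :
    Nat.card {x : G // x ∈ K ∧ IsConj u x} ≤ (K.subgroupOf (nz K)).index := by
  -- the conjugation map on the quotient
  have hwd : ∀ g g' : nz K, QuotientGroup.leftRel (K.subgroupOf (nz K)) g g' →
      (g : G) * u * (g : G)⁻¹ = (g' : G) * u * (g' : G)⁻¹ := by
    intro g g' hgg'
    rw [QuotientGroup.leftRel_apply, Subgroup.mem_subgroupOf] at hgg'
    set k := ((g⁻¹ * g' : nz K) : G) with hk
    have hg' : (g' : G) = (g : G) * k := by
      rw [hk]
      simp
    rw [hg']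
    have hcomm : k * u = u * k := hab k hgg' u hu
    calc (g : G) * u * (g : G)⁻¹ = (g : G) * (u * k * k⁻¹) * (g : G)⁻¹ := by group
      _ = (g : G) * (k * u * k⁻¹) * (g : G)⁻¹ := by rw [hcomm]
      _ = (g : G) * k * u * ((g : G) * k)⁻¹ := by group
  let F : nz K ⧸ K.subgroupOf (nz K) → G :=
    Quotient.lift (fun g : nz K => (g : G) * u * (g : G)⁻¹) hwd
  have hsurj : ∀ x : {x : G // x ∈ K ∧ IsConj u x}, ∃ q, F q = x.1 := by
    rintro ⟨x, hxK, hx⟩
    obtain ⟨g, hg⟩ := isConj_iff.1 hx
    have hgN : g ∈ nz K := by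
      by_contra hgN
      have := h.hTI g hgN u hu (by rw [hg]; exact hxK)
      exact hu1 this
    exact ⟨QuotientGroup.mk ⟨g, hgN⟩, hg⟩
  choose q hq using hsurj
  have hinj : Function.Injective q := by
    intro x y hxy
    apply Subtype.ext
    rw [← hq x, ← hq y, hxy]
  have := Nat.card_le_card_of_injective q hinj
  rwa [← Subgroup.index_eq_card] at this

/-- the number of classes meeting `K` -/
theorem card_classes_meeting (h : FrobTI K) (hab : ∀ a ∈ K, ∀ b ∈ K, a * b = b * a) :
    Nat.card (RelT K) + 1 ≤ Nat.card {C : ConjClasses G // ∃ g ∈ K, ConjClasses.mk g = C} := by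
  have hK := card_K_eq h hab
  set e := (K.subgroupOf (nz K)).index with he
  have hepos : 0 < e := Nat.pos_of_ne_zero Subgroup.index_ne_zero_of_finite
  -- the elements of `K` by class
  let eqv : K ≃ Σ C : {C : ConjClasses G // ∃ g ∈ K, ConjClasses.mk g = C},
      {x : G // x ∈ K ∧ ConjClasses.mk x = C.1} :=
    { toFun := fun x => ⟨⟨ConjClasses.mk x.1, x.1, x.2, rfl⟩, x.1, x.2, rfl⟩
      invFun := fun p => ⟨p.2.1, p.2.2.1⟩
      left_inv := fun x => rfl
      right_inv := by
        rintro ⟨⟨C, hC⟩, x, hxK, hx⟩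
        simp only at hx
        subst hx
        rfl }
  have h1 := Nat.card_congr eqv
  rw [Nat.card_sigma] at h1
  set C₁ : {C : ConjClasses G // ∃ g ∈ K, ConjClasses.mk g = C} :=
    ⟨ConjClasses.mk 1, 1, K.one_mem, rfl⟩ with hC₁
  have hbound : ∀ C : {C : ConjClasses G // ∃ g ∈ K, ConjClasses.mk g = C},
      Nat.card {x : G // x ∈ K ∧ ConjClasses.mk x = C.1} ≤ if C = C₁ then 1 else e := by
    rintro ⟨C, u, hu, rfl⟩
    split_ifs with hC
    · have hu1 : u = 1 := by
        have := congrArg Subtype.val hC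
        simp only [hC₁] at this
        rw [ConjClasses.mk_eq_mk_iff_isConj] at this
        exact isConj_one_left.1 this
      subst hu1
      have : Subsingleton {x : G // x ∈ K ∧ ConjClasses.mk x = ConjClasses.mk (1 : G)} := by
        constructor
        rintro ⟨x, -, hx⟩ ⟨y, -, hy⟩
        rw [ConjClasses.mk_eq_mk_iff_isConj] at hx hy
        apply Subtype.ext
        simp only
        rw [isConj_one_left.1 hx, isConj_one_left.1 hy]
      exact Finite.card_le_one_iff_subsingleton.2 this
    · have hu1 : u ≠ 1 := by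
        rintro rfl
        exact hC rfl
      have := card_class_inter_le h hab hu hu1
      refine le_trans (le_of_eq ?_) this
      refine Nat.card_congr (Equiv.subtypeEquivRight fun x => ?_)
      rw [ConjClasses.mk_eq_mk_iff_isConj]
      constructor
      · rintro ⟨h1, h2⟩
        exact ⟨h1, h2.symm⟩
      · rintro ⟨h1, h2⟩
        exact ⟨h1, h2.symm⟩
  have h2 := Finset.sum_le_sum fun C (_ : C ∈ Finset.univ) => hbound C
  rw [← h1, Finset.sum_ite, Finset.sum_const, Finset.sum_const, smul_eq_mul, smul_eq_mul,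
    mul_one] at h2
  have h3 : (Finset.univ.filter fun C : {C : ConjClasses G // ∃ g ∈ K, ConjClasses.mk g = C} =>
      C = C₁).card = 1 := by
    rw [Finset.filter_eq' Finset.univ C₁, if_pos (Finset.mem_univ _), Finset.card_singleton]
  have h4 : (Finset.univ.filter fun C : {C : ConjClasses G // ∃ g ∈ K, ConjClasses.mk g = C} =>
      ¬ C = C₁).card + 1 = Nat.card {C : ConjClasses G // ∃ g ∈ K, ConjClasses.mk g = C} := by
    rw [← h3, add_comm, Finset.card_filter_add_card_filter_not, Finset.card_univ,
      Nat.card_eq_fintype_card]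
  rw [h3, ← hK] at h2
  have h5 : Nat.card (RelT K) * e ≤ (Finset.univ.filter fun C :
      {C : ConjClasses G // ∃ g ∈ K, ConjClasses.mk g = C} => ¬ C = C₁).card * e := by omega
  have h6 := Nat.le_of_mul_le_mul_right h5 hepos
  omega

/-- the classes meeting `K` and the classes missing `K` -/
theorem card_conjClasses_eq :
    Nat.card (ConjClasses G) = Nat.card {C : ConjClasses G // ∃ g ∈ K, ConjClasses.mk g = C} +
      Nat.card {C : ConjClasses G // ∀ g : G, ConjClasses.mk g = C → g ∉ K} := by
  have h1 : Nat.card {C : ConjClasses G // ∃ g ∈ K, ConjClasses.mk g = C} =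
      Nat.card {C : ConjClasses G // ¬ ∀ g : G, ConjClasses.mk g = C → g ∉ K} := by
    refine Nat.card_congr (Equiv.subtypeEquivRight fun C => ?_)
    constructor
    · rintro ⟨g, hg, hC⟩ hcon
      exact hcon g hC hg
    · intro hcon
      push Not at hcon
      obtain ⟨g, hC, hg⟩ := hcon
      exact ⟨g, hg, hC⟩
  rw [h1, Nat.card_eq_fintype_card, Nat.card_eq_fintype_card, Nat.card_eq_fintype_card,
    Fintype.card_subtype_compl]
  have := Fintype.card_subtype_le fun C : ConjClasses G => ∀ g : G, ConjClasses.mk g = C → g ∉ K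
  omega

end Cfsg.Agent.Lib.H4.Feit
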