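import Cfsg.Agent.Lib.H4.Feit.CountIrr
import Cfsg.Agent.Lib.L0.CharPairs

/-!
# Abelian T.I. subgroup with Frobenius normalizer: two relevant characters with different values
at a given element; sums against a difference of two irreducible characters
-/

set_option autoImplicit false
set_option linter.unusedSectionVars false

namespace Cfsg.Agent.Lib.H4.Feit

open Cfsg Cfsg.Agent.Lib.L0 Cfsg.Agent.Lib.L0.FrobTI Cfsg.Agent.Lib.H8
open scoped ComplexConjugate Classical

variable {G : Type*} [Group G] [Fintype G]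

theorem finsum_mul_classInner_sub (χ₁ χ₂ : IrrCharacter G) (F : IrrCharacter G → ℂ) :
    ∑ᶠ χ : IrrCharacter G, F χ * classInner ((χ₁ : G → ℂ) - (χ₂ : G → ℂ)) (χ : G → ℂ)
      = F χ₁ - F χ₂ := by
  have := Fintype.ofFinite (IrrCharacter G)
  rw [finsum_eq_sum_of_fintype]
  have hinner : ∀ χ : IrrCharacter G, classInner ((χ₁ : G → ℂ) - (χ₂ : G → ℂ)) (χ : G → ℂ)
      = (if χ₁ = χ then 1 else 0) - (if χ₂ = χ then 1 else 0) := by
    intro χ
    rw [classInner_sub_left, irr_classInner_eq χ₁.2 χ.2, irr_classInner_eq χ₂.2 χ.2]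
    congr 1
    · by_cases hc : (χ₁ : G → ℂ) = χ
      · rw [if_pos hc, if_pos (Subtype.ext hc)]
      · rw [if_neg hc, if_neg (fun h => hc (congrArg Subtype.val h))]
    · by_cases hc : (χ₂ : G → ℂ) = χ
      · rw [if_pos hc, if_pos (Subtype.ext hc)]
      · rw [if_neg hc, if_neg (fun h => hc (congrArg Subtype.val h))]
  simp only [hinner, mul_sub, Finset.sum_sub_distrib, mul_ite, mul_one, mul_zero,
    Finset.sum_ite_eq, Finset.mem_univ, if_true]

variable {K : Subgroup G} [Fintype (nz K)]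

/-- two relevant characters take different values at a given non-identity element of `K` -/
theorem exists_rel_ne (h : FrobTI K) (hab : ∀ a ∈ K, ∀ b ∈ K, a * b = b * a)
    (ht : 2 ≤ Nat.card (RelT K)) (u : nz K) (hu : (u : G) ∈ K) (hu1 : u ≠ 1) :
    ∃ ζ ξ : RelT K, (ζ.1 : nz K → ℂ) u ≠ (ξ.1 : nz K → ℂ) u := by
  have : Fintype (IrrCharacter (nz K)) := Fintype.ofFinite _
  have : Fintype (RelT K) := Fintype.ofFinite _
  by_contra hcon
  push Not at hcon
  have hne : Nonempty (RelT K) := by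
    rw [← Finite.card_pos_iff]
    omega
  obtain ⟨ζ₀⟩ := hne
  set v := (ζ₀.1 : nz K → ℂ) u with hv
  have hall : ∀ ζ : RelT K, (ζ.1 : nz K → ℂ) u = v := fun ζ => hcon ζ ζ₀
  have h1 := Cfsg.Agent.Lib.H24.sum_irr_one_mul (G := nz K) u
  rw [if_neg hu1, ← Finset.sum_filter_add_sum_filter_not Finset.univ
    (fun η : IrrCharacter (nz K) => Rel K (η : nz K → ℂ))] at h1
  set e := (K.subgroupOf (nz K)).index with he
  have h2 : ∑ η ∈ Finset.univ.filter (fun η : IrrCharacter (nz K) => Rel K (η : nz K → ℂ)),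
      (η : nz K → ℂ) 1 * (η : nz K → ℂ) u = (Fintype.card (RelT K) : ℂ) * ((e : ℂ) * v) := by
    rw [sum_rel_eq (K := K) (fun η : IrrCharacter (nz K) => (η : nz K → ℂ) 1 * (η : nz K → ℂ) u)]
    rw [Finset.sum_congr rfl (g := fun _ => (e : ℂ) * v), Finset.sum_const, Finset.card_univ,
      nsmul_eq_mul]
    intro ζ _
    rw [h.rel_degree hab ζ.1.2 ζ.2, hall ζ]
  have h3 : ∑ η ∈ Finset.univ.filter (fun η : IrrCharacter (nz K) => ¬ Rel K (η : nz K → ℂ)),
      (η : nz K → ℂ) 1 * (η : nz K → ℂ) u = (e : ℂ) := by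
    have hsq := sum_rel_sq (K := K)
    have hall2 := Cfsg.Agent.Lib.H24.sum_irr_one_sq (G := nz K)
    rw [← Finset.sum_filter_add_sum_filter_not Finset.univ
      (fun η : IrrCharacter (nz K) => Rel K (η : nz K → ℂ)), hsq] at hall2
    have : ∑ η ∈ Finset.univ.filter (fun η : IrrCharacter (nz K) => ¬ Rel K (η : nz K → ℂ)),
        (η : nz K → ℂ) 1 * (η : nz K → ℂ) u =
        ∑ η ∈ Finset.univ.filter (fun η : IrrCharacter (nz K) => ¬ Rel K (η : nz K → ℂ)),
        (η : nz K → ℂ) 1 ^ 2 := by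
      refine Finset.sum_congr rfl fun η hη => ?_
      rw [not_rel_apply (Finset.mem_filter.mp hη).2 u hu, pow_two]
    rw [this]
    linear_combination hall2
  rw [h2, h3] at h1
  have he0 : (e : ℂ) ≠ 0 := by
    have : e ≠ 0 := Subgroup.index_ne_zero_of_finite
    exact_mod_cast this
  have ht0 : (Fintype.card (RelT K) : ℂ) ≠ 0 := by
    have : Fintype.card (RelT K) ≠ 0 := by
      rw [← Nat.card_eq_fintype_card]
      omega
    exact_mod_cast this
  have hvq : v = ((-1 / (Fintype.card (RelT K) : ℚ) : ℚ) : ℂ) := by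
    push_cast
    rw [eq_div_iff ht0]
    have : (e : ℂ) * (v * (Fintype.card (RelT K) : ℂ) + 1) = 0 := by linear_combination h1
    rcases mul_eq_zero.1 this with h4 | h4
    · exact absurd h4 he0
    · linear_combination h4
  have hint : IsIntegral ℤ v := isCharacter_isIntegral (isCharacter_of_irr ζ₀.1.2) u
  obtain ⟨z, hz⟩ := int_of_isIntegral_of_rat hint _ hvq
  rw [hz] at hvq
  have h5 : (z : ℂ) * (Fintype.card (RelT K) : ℂ) = -1 := by
    rw [hvq]
    push_cast
    field_simp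
  have h6 : z * (Fintype.card (RelT K) : ℤ) = -1 := by exact_mod_cast h5
  have h7 : ((Fintype.card (RelT K) : ℤ)) ∣ 1 := ⟨-z, by linarith⟩
  have h8 := Int.le_of_dvd one_pos h7
  rw [Nat.card_eq_fintype_card] at ht
  have : (2 : ℤ) ≤ Fintype.card (RelT K) := by exact_mod_cast ht
  omega

end Cfsg.Agent.Lib.H4.Feit
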