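import Cfsg.Agent.Lib.H4.Feit.CohMain
import Cfsg.Agent.Lib.H4.Feit.CohEvenA

/-!
# Simple Zassenhaus groups with two point stabilizers of odd order and abelian kernel of even
order: the contradiction from the class multiplication constants of the involutions
-/

set_option autoImplicit false
set_option linter.unusedSectionVars false

namespace Cfsg.Agent.Lib.H4.Feit

open MulAction Cfsg Cfsg.Agent.Lib.H2.Zass Cfsg.Agent.Lib.H4.Zas Cfsg.Agent.Lib.L0
  Cfsg.Agent.Lib.L0.FrobTI Cfsg.Agent.Lib.H8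
open scoped Classical ComplexConjugate

variable {G Ω : Type*} [Group G] [MulAction G Ω] [Fintype G] [Fintype Ω]

namespace OddSimple

variable (hS : OddSimple G Ω) {H : Subgroup G} {a : Ω} (hH : IsKer H a)

include hS hH in
/-- odd degree: the kernel contains an involution -/
theorem exists_invol_mem (hn : Fintype.card Ω % 2 = 1) {b : Ω} (hab : a ≠ b) :
    ∃ t ∈ H, orderOf t = 2 := by
  have hP := hS.pre
  have h5 := card_eq hP a b hab
  rw [Nat.card_eq_fintype_card (α := Ω)] at h5
  have h2 : 2 ∣ Fintype.card G := by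
    rw [← Nat.card_eq_fintype_card, h5]
    apply Dvd.dvd.mul_right
    apply Dvd.dvd.mul_left
    omega
  have : Fact (Nat.Prime 2) := ⟨Nat.prime_two⟩
  obtain ⟨t₁, ht₁⟩ := exists_prime_orderOf_dvd_card 2 h2
  obtain ⟨c, hc⟩ := hS.invol_exists_fix hn ht₁
  obtain ⟨g, hg⟩ : ∃ g : G, g • c = a := by
    by_cases hca : c = a
    · exact ⟨1, by rw [one_smul, hca]⟩
    · obtain ⟨g, hg, -⟩ := hP.two c a a c hca (Ne.symm hca)
      exact ⟨g, hg⟩
  refine ⟨g * t₁ * g⁻¹, ?_, ?_⟩
  · apply hS.invol_mem hH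
    · rw [orderOf_conj_eq]
      exact ht₁
    · rw [mul_smul, mul_smul, ← hg, inv_smul_smul, hc]
  · rw [orderOf_conj_eq]
    exact ht₁

include hS hH in
/-- the number of involutions of the kernel -/
theorem card_invol_mem (hn : Fintype.card Ω % 2 = 1) {b : Ω} (hab : a ≠ b) :
    (Finset.univ.filter fun y : G => orderOf y = 2 ∧ y ∈ H).card =
      Nat.card ↥(stabilizer G a ⊓ stabilizer G b) := by
  rw [← hS.card_invol_fix hn hab a, Nat.card_eq_fintype_card, Fintype.card_subtype]
  congr 1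
  ext y
  simp only [Finset.mem_filter, Finset.mem_univ, true_and]
  constructor
  · rintro ⟨h1, h2⟩
    exact ⟨h1, hH.le h2⟩
  · rintro ⟨h1, h2⟩
    exact ⟨h1, hS.invol_mem hH h1 h2⟩

include hS hH in
/-- the ways of writing an involution of the kernel as a product of two involutions -/
theorem rInv_of_invol (hn : Fintype.card Ω % 2 = 1) {b : Ω} (hab : a ≠ b)
    (habel : ∀ x ∈ H, ∀ y ∈ H, x * y = y * x) {y : G} (hy : y ∈ H) (hy2 : orderOf y = 2) :
    rInv y + 1 = Nat.card ↥(stabilizer G a ⊓ stabilizer G b) := by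
  rw [← hS.card_invol_mem hH hn hab]
  have hy1 : y ≠ 1 := by
    rintro rfl
    rw [orderOf_one] at hy2
    omega
  have hyy : y * y = 1 := by rw [← pow_two, ← hy2]; exact pow_orderOf_eq_one y
  have hset : (Finset.univ.filter fun x : G => orderOf x = 2 ∧ orderOf (x⁻¹ * y) = 2) =
      (Finset.univ.filter fun x : G => orderOf x = 2 ∧ x ∈ H).erase y := by
    ext x
    simp only [Finset.mem_filter, Finset.mem_univ, true_and, Finset.mem_erase]
    constructor
    · rintro ⟨h1, h2⟩
      have hprod : x * (x⁻¹ * y) = y := by group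
      have := hS.mem_of_mul_mem hH h1 h2 (by rw [hprod]; exact hy) (by rw [hprod]; exact hy1)
      refine ⟨?_, h1, this.1⟩
      rintro rfl
      rw [inv_mul_cancel, orderOf_one] at h2
      omega
    · rintro ⟨h1, h2, h3⟩
      refine ⟨h2, ?_⟩
      have hxx : x * x = 1 := by rw [← pow_two, ← h2]; exact pow_orderOf_eq_one x
      have hxinv := inv_eq_self_of_orderOf_two h2
      apply orderOf_eq_prime
      · rw [pow_two, hxinv]
        calc x * y * (x * y) = x * (y * x) * y := by group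
          _ = x * (x * y) * y := by rw [habel y hy x h3]
          _ = (x * x) * (y * y) := by group
          _ = 1 := by rw [hxx, hyy, one_mul]
      · intro h
        apply h1
        rw [hxinv] at h
        have := eq_inv_of_mul_eq_one_left h
        rw [this, inv_eq_self_of_orderOf_two hy2]
  unfold rInv
  rw [hset, Finset.card_erase_of_mem (by simp [hy, hy2])]
  have : 0 < (Finset.univ.filter fun x : G => orderOf x = 2 ∧ x ∈ H).card :=
    Finset.card_pos.2 ⟨y, by simp [hy, hy2]⟩
  omega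

include hS hH in
/-- a non-identity element of the kernel which is not an involution is not a product of two
involutions -/
theorem rInv_of_not_invol (habel : ∀ x ∈ H, ∀ y ∈ H, x * y = y * x) {y : G} (hy : y ∈ H)
    (hy1 : y ≠ 1) (hy2 : orderOf y ≠ 2) : rInv y = 0 := by
  unfold rInv
  rw [Finset.card_eq_zero, Finset.filter_eq_empty_iff]
  rintro x - ⟨h1, h2⟩
  apply hy2
  have hprod : x * (x⁻¹ * y) = y := by group
  obtain ⟨hx, hxy⟩ := hS.mem_of_mul_mem hH h1 h2 (by rw [hprod]; exact hy)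
    (by rw [hprod]; exact hy1)
  have hxx : x * x = 1 := by rw [← pow_two, ← h1]; exact pow_orderOf_eq_one x
  have hzz : (x⁻¹ * y) * (x⁻¹ * y) = 1 := by rw [← pow_two, ← h2]; exact pow_orderOf_eq_one _
  apply orderOf_eq_prime
  · rw [pow_two]
    calc y * y = x * (x⁻¹ * y) * (x * (x⁻¹ * y)) := by rw [hprod]
      _ = x * ((x⁻¹ * y) * x) * (x⁻¹ * y) := by group
      _ = x * (x * (x⁻¹ * y)) * (x⁻¹ * y) := by rw [habel _ hxy x hx]
      _ = (x * x) * ((x⁻¹ * y) * (x⁻¹ * y)) := by group
      _ = 1 := by rw [hxx, hzz, one_mul]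
  · exact hy1

include hS in
/-- the number of pairs of conjugates of an involution with a given product -/
theorem card_pairs_eq {t : G} (ht : orderOf t = 2) (y : G) :
    Nat.card {p : G × G // IsConj t p.1 ∧ IsConj t p.2 ∧ p.1 * p.2 = y} = rInv y := by
  unfold rInv
  rw [← Fintype.card_subtype, ← Nat.card_eq_fintype_card]
  have hiff : ∀ x : G, IsConj t x ↔ orderOf x = 2 := by
    intro x
    constructor
    · rintro ⟨c, hc⟩
      rw [← hc.orderOf_eq, ht]
    · intro hx
      exact hS.invol_conj ht hx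
  refine Nat.card_congr
    { toFun := fun p => ⟨p.1.1, (hiff _).1 p.2.1, by
        have h2 := (hiff _).1 p.2.2.1
        have h3 := p.2.2.2
        have : p.1.1⁻¹ * y = p.1.2 := inv_mul_eq_of_eq_mul h3.symm
        rw [this]
        exact h2⟩
      invFun := fun x => ⟨(x.1, x.1⁻¹ * y), (hiff _).2 x.2.1, (hiff _).2 x.2.2, by
        simp only
        group⟩
      left_inv := by
        rintro ⟨⟨p1, p2⟩, h1, h2, h3⟩
        simp only at h3
        apply Subtype.ext
        simp only [Prod.mk.injEq, true_and]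
        rw [← h3]
        group
      right_inv := by
        rintro ⟨x, h1, h2⟩
        rfl }

include hS in
/-- odd degree: the number of involutions -/
theorem card_conj_invol (hn : Fintype.card Ω % 2 = 1) {a b : Ω} (hab : a ≠ b) {t : G}
    (ht : orderOf t = 2) :
    Nat.card {x : G // IsConj t x} =
      Fintype.card Ω * Nat.card ↥(stabilizer G a ⊓ stabilizer G b) := by
  have hP := hS.pre
  have h1 := hS.card_invol_mul hab
  have hn3 := three_le_card hP
  rw [hn] at h1
  have h2 : Nat.card {x : G // IsConj t x} = Nat.card {x : G // orderOf x = 2} := by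
    refine Nat.card_congr (Equiv.subtypeEquivRight fun x => ?_)
    constructor
    · rintro ⟨c, hc⟩
      rw [← hc.orderOf_eq, ht]
    · intro hx
      exact hS.invol_conj ht hx
  rw [h2]
  have : Nat.card {x : G // orderOf x = 2} * (Fintype.card Ω - 1) =
      (Fintype.card Ω * Nat.card ↥(stabilizer G a ⊓ stabilizer G b)) * (Fintype.card Ω - 1) := by
    rw [h1]
    ring
  exact Nat.eq_of_mul_eq_mul_right (by omega) this

include hS hH in
/-- the order of the normalizer of the kernel -/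
theorem card_nz {b : Ω} (hab : a ≠ b) :
    Nat.card (nz H) = Nat.card ↥(stabilizer G a ⊓ stabilizer G b) * (Fintype.card Ω - 1) := by
  rw [card_nz_eq H, hS.index_eq hH hab]
  have := hH.card
  congr 1
  omega

include hS in
/-- the two point stabilizers are not trivial -/
theorem two_le_card_inf {a b : Ω} (hab : a ≠ b) :
    2 ≤ Nat.card ↥(stabilizer G a ⊓ stabilizer G b) := by
  have hP := hS.pre
  obtain ⟨g, hg1, c, d, hcd, hgc, hgd⟩ := hP.fix
  rw [← card_inf_eq hP hab hcd]
  have : Nontrivial ↥(stabilizer G c ⊓ stabilizer G d) := by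
    refine ⟨⟨⟨g, ?_⟩, 1, ?_⟩⟩
    · rw [Subgroup.mem_inf]
      exact ⟨hgc, hgd⟩
    · intro h
      exact hg1 (congrArg Subtype.val h)
  exact Finite.one_lt_card

include hS hH in
/-- class functions of the normalizer take the same value at all involutions of the kernel -/
theorem classFun_invol_eq {φ : nz H → ℂ} (hφ : IsClassFunction (nz H) φ) {t y : nz H}
    (ht : orderOf (t : G) = 2) (htH : (t : G) ∈ H) (hy : orderOf (y : G) = 2) (hyH : (y : G) ∈ H) :
    φ y = φ t := by
  obtain ⟨g, hg⟩ := isConj_iff.1 (hS.invol_conj ht hy)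
  have ht1 : (t : G) ≠ 1 := by
    intro h
    rw [h, orderOf_one] at ht
    omega
  have hgN : g ∈ nz H := by
    by_contra hgN
    exact ht1 ((hS.frobTI hH).hTI g hgN t htH (by rw [hg]; exact hyH))
  have : y = ⟨g, hgN⟩ * t * ⟨g, hgN⟩⁻¹ := by
    apply Subtype.ext
    simp only [Subgroup.coe_mul, Subgroup.coe_inv]
    exact hg.symm
  rw [this, hφ]

include hS hH in
/-- odd degree, abelian kernel: `n - 2 ≤ 2 e` -/
theorem false_of_odd (hn : Fintype.card Ω % 2 = 1) {b : Ω} (hab : a ≠ b)
    (habel : ∀ x ∈ H, ∀ y ∈ H, x * y = y * x)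
    (hlt : 2 * Nat.card ↥(stabilizer G a ⊓ stabilizer G b) + 2 < Fintype.card Ω) : False := by
  have hP := hS.pre
  have hF := hS.frobTI hH
  obtain ⟨D, ζ₀, hc, -⟩ := hS.main_count hH hab habel hlt
  have hcount := hS.card_rel_mul hH hab habel
  have hidx := hS.index_eq hH hab
  have he2 := hS.two_le_card_inf hab
  have hn3 := three_le_card hP
  obtain ⟨e, he⟩ : ∃ e : ℕ, e = Nat.card ↥(stabilizer G a ⊓ stabilizer G b) := ⟨_, rfl⟩
  rw [← he] at hcount hidx he2 hlt
  have ht3 : 3 ≤ Nat.card (RelT H) := by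
    by_contra hcon
    push Not at hcon
    have : Nat.card (RelT H) * e ≤ 2 * e := Nat.mul_le_mul_right _ (by omega)
    omega
  have hres := D.restrict_eq hF habel (hS.indHyp hH) (by omega) ζ₀ hc (by rw [hidx]; exact he2)
  obtain ⟨t, htH, ht2⟩ := hS.exists_invol_mem hH hn hab
  have htN : t ∈ nz H := Subgroup.le_normalizer htH
  obtain ⟨t', ht'⟩ : ∃ t' : nz H, t' = ⟨t, htN⟩ := ⟨_, rfl⟩
  have ht'c : (t' : G) = t := by rw [ht']
  have ht'1 : t' ≠ 1 := by
    intro h
    have : t = 1 := by rw [← ht'c, h]; rfl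
    rw [this, orderOf_one] at ht2
    omega
  obtain ⟨ζ, ξ, hne⟩ := exists_rel_ne hF habel (by omega) t' (by rw [ht'c]; exact htH) ht'1
  obtain ⟨d1, d2, d3⟩ := hF.diff_props habel ζ.1.2 ζ.2 ξ.1.2 ξ.2
  have key := sum_mul_card_pairs (nz H) ((ζ.1 : nz H → ℂ) - (ξ.1 : nz H → ℂ)) t
  -- the left hand side
  have hL : ∀ y : nz H, ((ζ.1 : nz H → ℂ) - (ξ.1 : nz H → ℂ)) y *
      (Nat.card {p : G × G // IsConj t p.1 ∧ IsConj t p.2 ∧ p.1 * p.2 = (y : G)} : ℂ) =
      if orderOf (y : G) = 2 ∧ (y : G) ∈ H then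
        ((ζ.1 : nz H → ℂ) - (ξ.1 : nz H → ℂ)) t' * ((e : ℂ) - 1) else 0 := by
    intro y
    rw [hS.card_pairs_eq ht2]
    by_cases hyH : (y : G) ∈ H
    · by_cases hy2 : orderOf (y : G) = 2
      · rw [if_pos ⟨hy2, hyH⟩, hS.classFun_invol_eq hH d1 (t := t') (by rw [ht'c]; exact ht2)
          (by rw [ht'c]; exact htH) hy2 hyH]
        have := hS.rInv_of_invol hH hn hab habel hyH hy2
        rw [← he] at this
        have h2 : (rInv (y : G) : ℂ) = (e : ℂ) - 1 := by
          rw [← this]
          push_cast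
          ring
        rw [h2]
      · rw [if_neg (fun h => hy2 h.1)]
        by_cases hy1 : y = 1
        · rw [hy1, d3, zero_mul]
        · rw [hS.rInv_of_not_invol hH habel hyH (fun h => hy1 (Subtype.ext h)) hy2]
          simp
    · rw [if_neg (fun h => hyH h.2), d2 y hyH, zero_mul]
  rw [Finset.sum_congr rfl fun y _ => hL y, ← Finset.sum_filter, Finset.sum_const,
    nsmul_eq_mul] at key
  have hcardT : (Finset.univ.filter fun y : nz H => orderOf (y : G) = 2 ∧ (y : G) ∈ H).card = e := by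
    rw [he, ← hS.card_invol_mem hH hn hab]
    refine Finset.card_bij (fun y _ => (y : G)) ?_ ?_ ?_
    · intro y hy
      simp only [Finset.mem_filter, Finset.mem_univ, true_and] at hy ⊢
      exact hy
    · intro y _ z _ hyz
      exact Subtype.ext hyz
    · intro y hy
      simp only [Finset.mem_filter, Finset.mem_univ, true_and] at hy
      exact ⟨⟨y, Subgroup.le_normalizer hy.2⟩, Finset.mem_filter.2 ⟨Finset.mem_univ _, hy⟩, rfl⟩
  rw [hcardT] at key
  -- the right hand side
  have hind : indFun (nz H) ((ζ.1 : nz H → ℂ) - (ξ.1 : nz H → ℂ)) =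
      (D.f ζ : G → ℂ) - (D.f ξ : G → ℂ) := by
    rw [D.hf ζ ξ, (hres ζ).1, one_smul]
  have hfs := finsum_mul_classInner_sub (D.f ζ) (D.f ξ)
    (fun χ : IrrCharacter G => (χ : G → ℂ) t * (χ : G → ℂ) t / (χ : G → ℂ) 1)
  rw [hind, hfs] at key
  have hval : ∀ ζ : RelT H, (D.f ζ : G → ℂ) t = (ζ.1 : nz H → ℂ) t' ∧
      (D.f ζ : G → ℂ) 1 = (e : ℂ) := by
    intro ζ
    have h1 := (hres ζ).2
    constructor
    · have := congrFun h1 t'
      simp only [ht'c] at this
      exact this
    · have := congrFun h1 1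
      simp only [Subgroup.coe_one] at this
      rw [this, hF.rel_degree habel ζ.1.2 ζ.2, hidx]
  rw [(hval ζ).1, (hval ζ).2, (hval ξ).1, (hval ξ).2, hS.card_conj_invol hn hab ht2,
    hS.card_nz hH hab, card_eq hP a b hab, Nat.card_eq_fintype_card (α := Ω), ← he] at key
  obtain ⟨A, hA⟩ : ∃ A : ℂ, A = (ζ.1 : nz H → ℂ) t' := ⟨_, rfl⟩
  obtain ⟨B, hB⟩ : ∃ B : ℂ, B = (ξ.1 : nz H → ℂ) t' := ⟨_, rfl⟩
  rw [Pi.sub_apply, ← hA, ← hB] at key
  rw [← hA, ← hB] at hne
  have hE : (e : ℂ) ≠ 0 := by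
    have : e ≠ 0 := by omega
    exact_mod_cast this
  have hN : (Fintype.card Ω : ℂ) ≠ 0 := by
    have : Fintype.card Ω ≠ 0 := by omega
    exact_mod_cast this
  have hN1 : ((Fintype.card Ω - 1 : ℕ) : ℂ) ≠ 0 := by
    have : Fintype.card Ω - 1 ≠ 0 := by omega
    exact_mod_cast this
  have hAB : A - B ≠ 0 := sub_ne_zero.2 hne
  have hmain : (e : ℂ) - 1 = (Fintype.card Ω : ℂ) * (A + B) := by
    push_cast at key
    have h1 : (e : ℂ) * (A - B) * ((e : ℂ) - 1) =
        (e : ℂ) * (A - B) * ((Fintype.card Ω : ℂ) * (A + B)) := by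
      rw [show (e : ℂ) * (A - B) * ((e : ℂ) - 1) = (e : ℂ) * ((A - B) * ((e : ℂ) - 1)) by ring, key]
      field_simp
      ring
    exact mul_left_cancel₀ (mul_ne_zero hE hAB) h1
  -- integrality
  have hint : IsIntegral ℤ (A + B) := by
    rw [hA, hB]
    exact IsIntegral.add (isCharacter_isIntegral (isCharacter_of_irr ζ.1.2) t')
      (isCharacter_isIntegral (isCharacter_of_irr ξ.1.2) t')
  have hq : A + B = ((((e : ℚ) - 1) / (Fintype.card Ω : ℚ) : ℚ) : ℂ) := by
    push_cast
    rw [eq_div_iff hN, hmain]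
    ring
  obtain ⟨z, hz⟩ := int_of_isIntegral_of_rat hint _ hq
  rw [hz] at hmain
  have h3 : (e : ℤ) - 1 = (Fintype.card Ω : ℤ) * z := by exact_mod_cast hmain
  have he2' : (2 : ℤ) ≤ e := by exact_mod_cast he2
  have hlt' : (2 : ℤ) * e + 2 < Fintype.card Ω := by exact_mod_cast hlt
  rcases le_or_gt z 0 with hz0 | hz0
  · have : (Fintype.card Ω : ℤ) * z ≤ 0 :=
      mul_nonpos_of_nonneg_of_nonpos (by positivity) hz0
    omega
  · have : (Fintype.card Ω : ℤ) * 1 ≤ (Fintype.card Ω : ℤ) * z :=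
      mul_le_mul_of_nonneg_left (by omega) (by positivity)
    omega

end OddSimple

end Cfsg.Agent.Lib.H4.Feit
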