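import Mathlib

/-!
# A finite group in which more than three quarters of the elements square to the identity is an
elementary abelian `2`-group
-/

set_option autoImplicit false

namespace Cfsg.Agent.Lib.H4.Feit

open scoped Classical

variable {Q : Type*} [Group Q] [Fintype Q]

theorem comm_of_rich (hrich : 3 * Fintype.card Q < 4 * (Finset.univ.filter fun x : Q => x * x = 1).card) :
    (∀ x y : Q, x * y = y * x) ∧ ∀ x : Q, x * x = 1 := by
  set J := Finset.univ.filter fun x : Q => x * x = 1 with hJ
  have memJ : ∀ x : Q, x ∈ J ↔ x * x = 1 := by
    intro x
    simp [hJ]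
  -- every element of `J` is central
  have hcent : ∀ x ∈ J, ∀ y : Q, x * y = y * x := by
    intro x hx
    have hx2 := (memJ x).1 hx
    have hxinv : x⁻¹ = x := inv_eq_of_mul_eq_one_left hx2
    -- the image of `J` under left multiplication by `x`
    set xJ := J.image (fun y => x * y) with hxJ
    have hcardxJ : xJ.card = J.card := Finset.card_image_of_injective _ (mul_right_injective x)
    have hinter : Fintype.card Q < 2 * (J ∩ xJ).card := by
      have h1 := Finset.card_union_add_card_inter J xJ
      have h2 : (J ∪ xJ).card ≤ Fintype.card Q := Finset.card_le_univ _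
      omega
    -- elements of the intersection commute with `x`
    have hsub : J ∩ xJ ⊆ Finset.univ.filter fun y : Q => y ∈ Subgroup.centralizer ({x} : Set Q) := by
      intro y hy
      rw [Finset.mem_inter] at hy
      obtain ⟨hy1, hy2⟩ := hy
      rw [hxJ, Finset.mem_image] at hy2
      obtain ⟨z, hz, rfl⟩ := hy2
      have hz2 := (memJ z).1 hz
      have hxz2 := (memJ _).1 hy1
      have hzinv : z⁻¹ = z := inv_eq_of_mul_eq_one_left hz2
      -- x z x z = 1 so x z = z x
      have hxz : x * z = z * x := by
        have : x * z = (x * z)⁻¹ := (inv_eq_of_mul_eq_one_left hxz2).symm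
        rw [this, mul_inv_rev, hzinv, hxinv]
      simp only [Finset.mem_filter, Finset.mem_univ, true_and]
      rw [Subgroup.mem_centralizer_singleton_iff]
      calc x * z * x = x * (z * x) := mul_assoc _ _ _
        _ = x * (x * z) := by rw [hxz]
    have hC : Fintype.card Q < 2 * Fintype.card (Subgroup.centralizer ({x} : Set Q)) := by
      have := Finset.card_le_card hsub
      rw [← Fintype.card_subtype] at this
      omega
    have htop : Subgroup.centralizer ({x} : Set Q) = ⊤ := by
      by_contra hne
      have hidx : (Subgroup.centralizer ({x} : Set Q)).index ≠ 1 := by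
        rwa [Ne, Subgroup.index_eq_one]
      have hmul := (Subgroup.centralizer ({x} : Set Q)).card_mul_index
      rw [Nat.card_eq_fintype_card, Nat.card_eq_fintype_card] at hmul
      have hidx0 : (Subgroup.centralizer ({x} : Set Q)).index ≠ 0 := Subgroup.index_ne_zero_of_finite
      have h2 : 2 ≤ (Subgroup.centralizer ({x} : Set Q)).index := by omega
      nlinarith
    intro y
    have : y ∈ Subgroup.centralizer ({x} : Set Q) := by rw [htop]; trivial
    rw [Subgroup.mem_centralizer_singleton_iff] at this
    exact this.symm
  -- `J` is a subgroup
  let S : Subgroup Q :=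
    { carrier := {x | x * x = 1}
      one_mem' := by simp
      mul_mem' := by
        intro x y hx hy
        have hxJ : x ∈ J := (memJ x).2 hx
        change x * y * (x * y) = 1
        calc x * y * (x * y) = x * (y * x) * y := by group
          _ = x * (x * y) * y := by rw [hcent x hxJ y]
          _ = (x * x) * (y * y) := by group
          _ = 1 := by rw [hx, hy, one_mul]
      inv_mem' := by
        intro x hx
        have : x⁻¹ = x := inv_eq_of_mul_eq_one_left hx
        change x⁻¹ * x⁻¹ = 1
        rw [this]
        exact hx }
  have hScard : Fintype.card S = J.card := by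
    rw [Fintype.card_subtype]
    rfl
  have hStop : S = ⊤ := by
    by_contra hne
    have hidx : S.index ≠ 1 := by rwa [Ne, Subgroup.index_eq_one]
    have hmul := S.card_mul_index
    rw [Nat.card_eq_fintype_card, Nat.card_eq_fintype_card] at hmul
    have hidx0 : S.index ≠ 0 := Subgroup.index_ne_zero_of_finite
    have h2 : 2 ≤ S.index := by omega
    nlinarith
  have hall : ∀ x : Q, x * x = 1 := by
    intro x
    have : x ∈ S := by rw [hStop]; trivial
    exact this
  exact ⟨fun x y => hcent x ((memJ x).2 (hall x)) y, hall⟩

end Cfsg.Agent.Lib.H4.Feit
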