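import Mathlib
import Cfsg.Agent.Lib.H4.Feit.Classes
import Cfsg.Agent.Lib.H4.Feit.Rich

/-!
# Simple Zassenhaus groups with two point stabilizers of odd order, even degree: few classes
missing the kernel is impossible when `4 e ≤ n - 2`
-/

set_option autoImplicit false
set_option linter.unusedSectionVars false

namespace Cfsg.Agent.Lib.H4.Feit

open MulAction Cfsg Cfsg.Agent.Lib.H2.Zass Cfsg.Agent.Lib.H4.Zas
open scoped Classical

variable {G Ω : Type*} [Group G] [MulAction G Ω] [Fintype G] [Fintype Ω]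

/-- a subgroup in which more than three quarters of the elements square to one is elementary
abelian -/
theorem subgroup_elementary_of_rich (Q : Subgroup G) (S : Finset G)
    (hS : ∀ x ∈ S, x ∈ Q ∧ x * x = 1) (hcard : 3 * Nat.card Q < 4 * S.card) :
    ∀ x ∈ Q, (x * x = 1 ∧ ∀ y ∈ Q, x * y = y * x) := by
  have hle : S.card ≤ (Finset.univ.filter fun x : Q => x * x = 1).card := by
    rw [← Finset.card_map (Function.Embedding.subtype (· ∈ Q))]
    apply Finset.card_le_card
    intro x hx
    obtain ⟨h1, h2⟩ := hS x hx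
    rw [Finset.mem_map]
    refine ⟨⟨x, h1⟩, ?_, rfl⟩
    rw [Finset.mem_filter]
    exact ⟨Finset.mem_univ _, Subtype.ext h2⟩
  have hrich : 3 * Fintype.card Q < 4 * (Finset.univ.filter fun x : Q => x * x = 1).card := by
    rw [← Nat.card_eq_fintype_card]
    omega
  obtain ⟨hc, hsq⟩ := comm_of_rich (Q := ↥Q) (by convert hrich)
  intro x hx
  refine ⟨?_, fun y hy => ?_⟩
  · have := hsq ⟨x, hx⟩
    rw [Subtype.ext_iff] at this
    exact this
  · have := hc ⟨x, hx⟩ ⟨y, hy⟩
    rw [Subtype.ext_iff] at this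
    exact this

namespace OddSimple

variable (hS : OddSimple G Ω) {H : Subgroup G} {a : Ω} (hH : IsKer H a)

include hS in
/-- the order of the centralizer of an involution, even degree -/
theorem card_centralizer_invol_even (hn : Fintype.card Ω % 2 = 0) {b : Ω} (hab : a ≠ b) {t : G}
    (ht : orderOf t = 2) :
    Nat.card (Subgroup.centralizer ({t} : Set G)) = Fintype.card Ω := by
  have hP := hS.pre
  have h1 := hS.card_invol_mul hab
  have h2 := Cfsg.Agent.Lib.H2.ncard_conj_mul_card_centralizer t
  have h3 : {y : G | IsConj t y} = {y : G | orderOf y = 2} := by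
    ext y
    constructor
    · rintro ⟨c, hc⟩
      have := hc.orderOf_eq
      rw [Set.mem_ofPred_eq, ← this, ht]
    · intro hy
      exact hS.invol_conj ht hy
  rw [h3] at h2
  have h4 : Set.ncard {y : G | orderOf y = 2} = Nat.card {y : G // orderOf y = 2} := by
    rw [← Nat.card_coe_set_eq]
    rfl
  rw [h4] at h2
  have h5 := card_eq hP a b hab
  rw [Nat.card_eq_fintype_card (α := Ω)] at h5
  have hn3 := three_le_card hP
  rw [hn, Nat.sub_zero] at h1
  set n := Fintype.card Ω
  set I := Nat.card {y : G // orderOf y = 2}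
  set e := Nat.card ↥(stabilizer G a ⊓ stabilizer G b)
  set C := Nat.card (Subgroup.centralizer ({t} : Set G))
  have hepos : 0 < e := Nat.card_pos
  have h7 : I = (n - 1) * e := by
    have : I * n = ((n - 1) * e) * n := by rw [h1]; ring
    exact Nat.eq_of_mul_eq_mul_right (by omega) this
  have : ((n - 1) * e) * C = ((n - 1) * e) * n := by
    rw [← h7, h2, h5, h7]
    ring
  exact Nat.eq_of_mul_eq_mul_left (Nat.mul_pos (by omega) hepos) this

include hS hH in
/-- if at most `e` classes miss the kernel, some involution is a product of two involutions in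
many ways -/
theorem exists_invol_rich (hn : Fintype.card Ω % 2 = 0) {b : Ω} (hab : a ≠ b)
    (hcls : Nat.card {C : ConjClasses G // ∀ g : G, ConjClasses.mk g = C → g ∉ H} ≤
      Nat.card ↥(stabilizer G a ⊓ stabilizer G b)) :
    ∃ t : G, orderOf t = 2 ∧
      Fintype.card Ω ≤ rInv t + Nat.card ↥(stabilizer G a ⊓ stabilizer G b) + 1 := by
  have hP := hS.pre
  obtain ⟨p, hp⟩ : ∃ p : G → Prop, ∀ z, p z ↔ ∀ k : G, k * z * k⁻¹ ∉ H := ⟨_, fun z => Iff.rfl⟩
  have hpinv : ∀ g x : G, p x → p (g * x * g⁻¹) := by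
    intro g x hx
    rw [hp] at hx ⊢
    intro k
    have : k * (g * x * g⁻¹) * k⁻¹ = (k * g) * x * (k * g)⁻¹ := by group
    rw [this]
    exact hx (k * g)
  have hsub : Nat.card {C : ConjClasses G // ∀ g : G, ConjClasses.mk g = C → g ∉ H} =
      Nat.card {C : ConjClasses G // ∀ g : G, ConjClasses.mk g = C → p g} := by
    refine Nat.card_congr (Equiv.subtypeEquivRight fun C => ?_)
    constructor
    · intro h g hg
      rw [hp]
      intro k
      apply h
      rw [← hg, ConjClasses.mk_eq_mk_iff_isConj, isConj_iff]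
      exact ⟨k⁻¹, by group⟩
    · intro h g hg
      have := (hp g).1 (h g hg) 1
      simpa using this
  rw [hsub] at hcls
  have h1 := sum_card_centralizer_filter p hpinv
  have h2 := sum_rInv_ge p 1 (fun x hx => by
    have := hS.card_bad_le hH hab hx
    rw [if_neg (by omega)] at this
    refine le_trans (Finset.card_le_card ?_) this
    intro y hy
    simp only [Finset.mem_filter, Finset.mem_univ, true_and, hp] at hy ⊢
    exact hy)
  -- the involutions satisfy `p`
  have hinvp : ∀ t : G, orderOf t = 2 → p t := by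
    intro t ht
    rw [hp]
    intro k hk
    have h3 : (k * t * k⁻¹) • a = a := hH.le hk
    rw [mul_smul, mul_smul] at h3
    exact hS.invol_no_fix hn ht (k⁻¹ • a) ((smul_eq_iff_eq_inv_smul k).1 h3)
  by_contra hcon
  push Not at hcon
  -- every involution has a large defect
  have hdef : ∀ t : G, orderOf t = 2 →
      rInv t + (Nat.card ↥(stabilizer G a ⊓ stabilizer G b) + 2) ≤
        Nat.card (Subgroup.centralizer ({t} : Set G)) := by
    intro t ht
    rw [hS.card_centralizer_invol_even hn hab ht]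
    have := hcon t ht
    omega
  have h3 : ∑ z ∈ Finset.univ.filter p, rInv z +
      Nat.card {x : G // orderOf x = 2} * (Nat.card ↥(stabilizer G a ⊓ stabilizer G b) + 2) ≤
      ∑ z ∈ Finset.univ.filter p, Nat.card (Subgroup.centralizer ({z} : Set G)) := by
    have hsplit : ∀ z ∈ Finset.univ.filter p,
        rInv z + (if orderOf z = 2 then Nat.card ↥(stabilizer G a ⊓ stabilizer G b) + 2 else 0) ≤
          Nat.card (Subgroup.centralizer ({z} : Set G)) := by
      intro z _
      split_ifs with hz
      · exact hdef z hz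
      · rw [add_zero]
        exact rInv_le z
    have h4 := Finset.sum_le_sum hsplit
    rw [Finset.sum_add_distrib] at h4
    refine le_trans ?_ h4
    apply Nat.add_le_add_left
    rw [← Finset.sum_filter, Finset.sum_const, smul_eq_mul, Nat.card_eq_fintype_card,
      Fintype.card_subtype]
    apply Nat.mul_le_mul_right
    apply Finset.card_le_card
    intro z hz
    simp only [Finset.mem_filter, Finset.mem_univ, true_and] at hz ⊢
    exact ⟨hinvp z hz, hz⟩
  rw [h1] at h3
  have h5 := card_eq hP a b hab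
  rw [Nat.card_eq_fintype_card (α := Ω)] at h5
  have h6 := hS.card_invol_mul hab
  have hn3 := three_le_card hP
  rw [hn, Nat.sub_zero] at h6
  set n := Fintype.card Ω
  set e := Nat.card ↥(stabilizer G a ⊓ stabilizer G b)
  set I := Nat.card {x : G // orderOf x = 2}
  set k := Nat.card {C : ConjClasses G // ∀ g : G, ConjClasses.mk g = C → p g}
  have hepos : 0 < e := Nat.card_pos
  have h7 : I = (n - 1) * e := by
    have : I * n = ((n - 1) * e) * n := by rw [h6]; ring
    exact Nat.eq_of_mul_eq_mul_right (by omega) this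
  -- I (I - 1) + I (e + 2) ≤ k |G| ≤ e |G|
  have h8 : I * (I - 1) + I * (e + 2) ≤ e * Nat.card G := by
    calc I * (I - 1) + I * (e + 2) ≤ ∑ z ∈ Finset.univ.filter p, rInv z + I * (e + 2) :=
          Nat.add_le_add_right h2 _
      _ ≤ k * Nat.card G := h3
      _ ≤ e * Nat.card G := Nat.mul_le_mul_right _ hcls
  rw [h5, h7] at h8
  obtain ⟨m, hm⟩ : ∃ m, n = m + 3 := ⟨n - 3, by omega⟩
  obtain ⟨e', he'⟩ : ∃ e', e = e' + 1 := ⟨e - 1, by omega⟩
  rw [hm, he'] at h8
  simp only [show m + 3 - 1 = m + 2 by omega] at h8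
  have h9 : (m + 2) * (e' + 1) - 1 = (m + 2) * e' + (m + 1) := by
    have : (m + 2) * (e' + 1) = (m + 2) * e' + (m + 1) + 1 := by ring
    omega
  rw [h9] at h8
  nlinarith

/-- a centralizer of an involution `t` with many ways of writing `t` as a product of two
involutions is an elementary abelian `2`-group -/
theorem centralizer_elementary_of_rich {t : G} (ht : orderOf t = 2)
    (hr : 3 * Nat.card (Subgroup.centralizer ({t} : Set G)) < 4 * (rInv t + 2)) :
    ∀ x ∈ Subgroup.centralizer ({t} : Set G), (x * x = 1 ∧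
      ∀ y ∈ Subgroup.centralizer ({t} : Set G), x * y = y * x) := by
  have htt : t * t = 1 := by rw [← pow_two, ← ht]; exact pow_orderOf_eq_one t
  have htinv := inv_eq_self_of_orderOf_two ht
  have ht1 : t ≠ 1 := by
    rintro rfl
    rw [orderOf_one] at ht
    omega
  obtain ⟨Q, hQ⟩ : ∃ Q : Subgroup G, Q = Subgroup.centralizer ({t} : Set G) := ⟨_, rfl⟩
  rw [← hQ] at hr ⊢
  obtain ⟨R, hR⟩ : ∃ R : Finset G,
    R = Finset.univ.filter fun x : G => orderOf x = 2 ∧ orderOf (x⁻¹ * t) = 2 := ⟨_, rfl⟩
  have hRcard : R.card = rInv t := by rw [hR]; rfl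
  have hRmem : ∀ x ∈ R, x ∈ Q ∧ x * x = 1 := by
    intro x hx
    simp only [hR, Finset.mem_filter, Finset.mem_univ, true_and] at hx
    have hxx : x * x = 1 := by rw [← pow_two, ← hx.1]; exact pow_orderOf_eq_one x
    have hxinv := inv_eq_self_of_orderOf_two hx.1
    refine ⟨?_, hxx⟩
    rw [hQ, Subgroup.mem_centralizer_singleton_iff]
    have h2 := inv_eq_self_of_orderOf_two hx.2
    rw [mul_inv_rev, inv_inv, htinv, hxinv] at h2
    exact h2.symm
  have h1R : (1 : G) ∉ R := by
    simp [hR]
  have htR : t ∉ R := by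
    simp [hR]
  have hcard : (insert 1 (insert t R)).card = rInv t + 2 := by
    rw [Finset.card_insert_of_notMem, Finset.card_insert_of_notMem htR, hRcard]
    · rw [Finset.mem_insert]
      rintro (h | h)
      · exact ht1 h.symm
      · exact h1R h
  have hsub : ∀ x ∈ insert 1 (insert t R), x ∈ Q ∧ x * x = 1 := by
    intro x hx
    rw [Finset.mem_insert, Finset.mem_insert] at hx
    rcases hx with rfl | rfl | hx
    · exact ⟨Q.one_mem, one_mul 1⟩
    · refine ⟨?_, htt⟩
      rw [hQ, Subgroup.mem_centralizer_singleton_iff]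
    · exact hRmem x hx
  exact subgroup_elementary_of_rich Q _ hsub (by rw [hcard]; exact hr)

include hS hH in
/-- under the hypotheses, every centralizer of an involution is an elementary abelian `2`-group -/
theorem centralizer_elementary (hn : Fintype.card Ω % 2 = 0) {b : Ω} (hab : a ≠ b)
    (hcls : Nat.card {C : ConjClasses G // ∀ g : G, ConjClasses.mk g = C → g ∉ H} ≤
      Nat.card ↥(stabilizer G a ⊓ stabilizer G b))
    (h4 : 4 * Nat.card ↥(stabilizer G a ⊓ stabilizer G b) + 2 ≤ Fintype.card Ω)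
    {t : G} (ht : orderOf t = 2) :
    ∀ x ∈ Subgroup.centralizer ({t} : Set G), (x * x = 1 ∧
      ∀ y ∈ Subgroup.centralizer ({t} : Set G), x * y = y * x) := by
  obtain ⟨t₀, ht₀, hr⟩ := hS.exists_invol_rich hH hn hab hcls
  have h0 := centralizer_elementary_of_rich ht₀ (by
    rw [hS.card_centralizer_invol_even hn hab ht₀]
    omega)
  obtain ⟨g, hg⟩ := isConj_iff.1 (hS.invol_conj ht₀ ht)
  have hmem : ∀ x ∈ Subgroup.centralizer ({t} : Set G),
      g⁻¹ * x * g ∈ Subgroup.centralizer ({t₀} : Set G) := by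
    intro x hx
    rw [Subgroup.mem_centralizer_singleton_iff] at hx ⊢
    rw [← hg] at hx
    have e1 : g⁻¹ * x * g * t₀ = g⁻¹ * (x * (g * t₀ * g⁻¹)) * g := by group
    have e2 : t₀ * (g⁻¹ * x * g) = g⁻¹ * ((g * t₀ * g⁻¹) * x) * g := by group
    rw [e1, e2, hx]
  intro x hx
  obtain ⟨h1, h2⟩ := h0 _ (hmem x hx)
  constructor
  · have : x * x = g * ((g⁻¹ * x * g) * (g⁻¹ * x * g)) * g⁻¹ := by group
    rw [this, h1]
    group
  · intro y hy
    have h3 := h2 _ (hmem y hy)
    have e1 : x * y = g * ((g⁻¹ * x * g) * (g⁻¹ * y * g)) * g⁻¹ := by group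
    have e2 : y * x = g * ((g⁻¹ * y * g) * (g⁻¹ * x * g)) * g⁻¹ := by group
    rw [e1, e2, h3]

end OddSimple

end Cfsg.Agent.Lib.H4.Feit
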