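import Mathlib
import Cfsg.Agent.Lib.H4.Feit.OddEnd

/-!
# Simple Zassenhaus groups with two point stabilizers of odd order, even degree: the final
contradiction
-/

set_option autoImplicit false
set_option linter.unusedSectionVars false

namespace Cfsg.Agent.Lib.H4.Feit

open MulAction Cfsg Cfsg.Agent.Lib.H2.Zass Cfsg.Agent.Lib.H4.Zas
open scoped Classical

variable {G Ω : Type*} [Group G] [MulAction G Ω] [Fintype G] [Fintype Ω]

/-- the data of an involution whose centralizer is a regular elementary abelian group, in a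
group where this holds for all involutions -/
structure RegCent (G Ω : Type*) [Group G] [MulAction G Ω] [Fintype G] [Fintype Ω] : Prop where
  elem : ∀ t : G, orderOf t = 2 → ∀ x ∈ Subgroup.centralizer ({t} : Set G), (x * x = 1 ∧
      ∀ y ∈ Subgroup.centralizer ({t} : Set G), x * y = y * x)
  card : ∀ t : G, orderOf t = 2 →
    Nat.card (Subgroup.centralizer ({t} : Set G)) = Fintype.card Ω
  free : ∀ t : G, orderOf t = 2 → ∀ c : Ω, t • c ≠ c
  conj : ∀ s t : G, orderOf s = 2 → orderOf t = 2 → IsConj s t

namespace RegCent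

variable (hR : RegCent G Ω)

theorem orderOf_of_sq {x : G} (hx : x * x = 1) (hx1 : x ≠ 1) : orderOf x = 2 := by
  apply orderOf_eq_prime
  · rw [pow_two]; exact hx
  · exact hx1

include hR in
theorem orderOf_mem {t : G} (ht : orderOf t = 2) {s : G}
    (hs : s ∈ Subgroup.centralizer ({t} : Set G)) (hs1 : s ≠ 1) : orderOf s = 2 :=
  orderOf_of_sq (hR.elem t ht s hs).1 hs1

include hR in
theorem centralizer_eq {t : G} (ht : orderOf t = 2) {s : G}
    (hs : s ∈ Subgroup.centralizer ({t} : Set G)) (hs1 : s ≠ 1) :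
    Subgroup.centralizer ({s} : Set G) = Subgroup.centralizer ({t} : Set G) := by
  have hs2 := hR.orderOf_mem ht hs hs1
  symm
  apply Subgroup.eq_of_le_of_card_ge
  · intro y hy
    rw [Subgroup.mem_centralizer_singleton_iff]
    exact ((hR.elem t ht s hs).2 y hy).symm
  · rw [hR.card t ht, hR.card s hs2]

include hR in
theorem eq_one_of_fix {t : G} (ht : orderOf t = 2) {x : G}
    (hx : x ∈ Subgroup.centralizer ({t} : Set G)) {c : Ω} (hc : x • c = c) : x = 1 := by
  by_contra hx1
  exact hR.free x (hR.orderOf_mem ht hx hx1) c hc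

include hR in
theorem exists_move {t : G} (ht : orderOf t = 2) (c d : Ω) :
    ∃ x ∈ Subgroup.centralizer ({t} : Set G), x • c = d := by
  have hinj : Function.Injective fun x : Subgroup.centralizer ({t} : Set G) => (x : G) • c := by
    intro x y hxy
    simp only at hxy
    have h1 : ((y : G)⁻¹ * (x : G)) • c = c := by
      rw [mul_smul, hxy, inv_smul_smul]
    have h2 := hR.eq_one_of_fix ht
      ((Subgroup.centralizer ({t} : Set G)).mul_mem
        ((Subgroup.centralizer ({t} : Set G)).inv_mem y.2) x.2) h1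
    apply Subtype.ext
    exact (inv_mul_eq_one.1 h2).symm
  have hcard : Fintype.card (Subgroup.centralizer ({t} : Set G)) = Fintype.card Ω := by
    rw [← Nat.card_eq_fintype_card]
    exact hR.card t ht
  have hbij := (Fintype.bijective_iff_injective_and_card _).2 ⟨hinj, hcard⟩
  obtain ⟨x, hx⟩ := hbij.2 d
  exact ⟨x.1, x.2, hx⟩

include hR in
/-- an element conjugating `t` into its centralizer normalizes the centralizer -/
theorem mem_normalizer {t : G} (ht : orderOf t = 2) {u : G}
    (hu : u * t * u⁻¹ ∈ Subgroup.centralizer ({t} : Set G)) :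
    u ∈ Subgroup.normalizer ((Subgroup.centralizer ({t} : Set G) : Subgroup G) : Set G) := by
  have hs1 : u * t * u⁻¹ ≠ 1 := by
    intro h
    have : t = 1 := by
      have h2 : t = u⁻¹ * (u * t * u⁻¹) * u := by group
      rw [h2, h]
      group
    rw [this, orderOf_one] at ht
    omega
  have hceq := hR.centralizer_eq ht hu hs1
  have key : ∀ x : G, x ∈ Subgroup.centralizer ({t} : Set G) ↔
      u * x * u⁻¹ ∈ Subgroup.centralizer ({u * t * u⁻¹} : Set G) := by
    intro x
    rw [Subgroup.mem_centralizer_singleton_iff, Subgroup.mem_centralizer_singleton_iff]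
    have e1 : u * t * u⁻¹ * (u * x * u⁻¹) = u * (t * x) * u⁻¹ := by group
    have e2 : u * x * u⁻¹ * (u * t * u⁻¹) = u * (x * t) * u⁻¹ := by group
    rw [e1, e2]
    constructor
    · intro h
      rw [h]
    · intro h
      exact mul_left_cancel (mul_right_cancel h)
  rw [Subgroup.mem_normalizer_iff]
  intro x
  rw [key x, hceq]

include hR in
/-- the kernel of a point stabilizer normalizes the centralizer of every involution -/
theorem ker_le_normalizer (hP : Pre G Ω) {H : Subgroup G} {a : Ω} (hH : IsKer H a) {t : G}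
    (ht : orderOf t = 2) :
    H ≤ Subgroup.normalizer ((Subgroup.centralizer ({t} : Set G) : Subgroup G) : Set G) := by
  obtain ⟨Q, hQ⟩ : ∃ Q : Subgroup G, Q = Subgroup.centralizer ({t} : Set G) := ⟨_, rfl⟩
  rw [← hQ]
  obtain ⟨L, hL⟩ : ∃ L : Subgroup G, L = Subgroup.normalizer (Q : Set G) ⊓ stabilizer G a :=
    ⟨_, rfl⟩
  -- `L ≤ H`
  have hLH : L ≤ H := by
    intro x hx
    rw [hL] at hx
    obtain ⟨hxN, hxa⟩ := Subgroup.mem_inf.1 hx
    rw [mem_stabilizer_iff] at hxa
    by_cases hx1 : x = 1
    · rw [hx1]; exact H.one_mem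
    apply hH.mem_of_fix_only hP hxa
    intro c hc
    by_contra hca
    obtain ⟨s, hs, hsa⟩ := hR.exists_move ht a c
    have hs1 : s ≠ 1 := by
      rintro rfl
      rw [one_smul] at hsa
      exact hca hsa.symm
    have h1 : x * s * x⁻¹ ∈ Q := (Subgroup.mem_normalizer_iff.1 hxN s).1 (hQ ▸ hs)
    have hxinv : x⁻¹ • a = a := by rw [inv_smul_eq_iff, hxa]
    have h2 : (x * s * x⁻¹) • a = s • a := by
      rw [mul_smul, mul_smul, hxinv, hsa, hc]
    have h3 : s⁻¹ * (x * s * x⁻¹) = 1 := by
      refine hR.eq_one_of_fix ht ?_ (c := a) (by rw [mul_smul, h2, inv_smul_smul])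
      rw [← hQ]
      exact Q.mul_mem (Q.inv_mem (hQ ▸ hs)) h1
    have h4 : x ∈ Subgroup.centralizer ({s} : Set G) := by
      rw [Subgroup.mem_centralizer_singleton_iff]
      have h5 : x * s * x⁻¹ = s := by
        have := congrArg (fun z => s * z) h3
        simpa using this
      calc x * s = x * s * x⁻¹ * x := by group
        _ = s * x := by rw [h5]
    rw [hR.centralizer_eq ht hs hs1] at h4
    exact hx1 (hR.eq_one_of_fix ht h4 hxa)
  -- `|H| ≤ |L|`
  have hcard : Nat.card H ≤ Nat.card L := by
    have hex : ∀ s : {s : G // s ∈ Q ∧ s ≠ 1}, ∃ u : L, (u : G) * t * (u : G)⁻¹ = s.1 := by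
      rintro ⟨s, hs, hs1⟩
      rw [hQ] at hs
      have hs2 := hR.orderOf_mem ht hs hs1
      obtain ⟨u₀, hu₀⟩ := isConj_iff.1 (hR.conj t s ht hs2)
      obtain ⟨x, hx, hxa⟩ := hR.exists_move ht a (u₀⁻¹ • a)
      have hxt : x * t * x⁻¹ = t := by
        rw [Subgroup.mem_centralizer_singleton_iff] at hx
        calc x * t * x⁻¹ = t * x * x⁻¹ := by rw [hx]
          _ = t := by group
      have hconj : u₀ * x * t * (u₀ * x)⁻¹ = s := by
        have : u₀ * x * t * (u₀ * x)⁻¹ = u₀ * (x * t * x⁻¹) * u₀⁻¹ := by group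
        rw [this, hxt, hu₀]
      refine ⟨⟨u₀ * x, ?_⟩, hconj⟩
      rw [hL, Subgroup.mem_inf]
      refine ⟨?_, ?_⟩
      · rw [hQ]
        apply hR.mem_normalizer ht
        rw [hconj]
        exact hs
      · rw [mem_stabilizer_iff, mul_smul, hxa, smul_inv_smul]
    choose f hf using hex
    have hinj : Function.Injective f := by
      intro s s' h
      apply Subtype.ext
      rw [← hf s, ← hf s', h]
    have h1 := Nat.card_le_card_of_injective f hinj
    have h2 : Nat.card {s : G // s ∈ Q ∧ s ≠ 1} + 1 = Nat.card Q := by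
      rw [Nat.card_eq_fintype_card, Nat.card_eq_fintype_card, Fintype.card_subtype,
        Fintype.card_subtype]
      have : (Finset.univ.filter fun s : G => s ∈ Q ∧ s ≠ 1) =
          (Finset.univ.filter fun s : G => s ∈ Q).erase 1 := by
        ext s
        simp only [Finset.mem_filter, Finset.mem_univ, true_and, Finset.mem_erase]
        tauto
      rw [this, Finset.card_erase_of_mem (by simp [Q.one_mem])]
      have : 0 < (Finset.univ.filter fun s : G => s ∈ Q).card := by
        apply Finset.card_pos.2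
        exact ⟨1, by simp [Q.one_mem]⟩
      omega
    have h3 := hH.card
    have h4 := hR.card t ht
    rw [← hQ] at h4
    omega
  have : L = H := Subgroup.eq_of_le_of_card_ge hLH hcard
  rw [← this, hL]
  exact inf_le_left

include hR in
/-- a simple group cannot have regular elementary abelian involution centralizers -/
theorem false_of_simple (hP : Pre G Ω) [IsSimpleGroup G] {H : Subgroup G} {a : Ω}
    (hH : IsKer H a) {t : G} (ht : orderOf t = 2) : False := by
  have hn3 := three_le_card hP
  obtain ⟨Q, hQ⟩ : ∃ Q : Subgroup G, Q = Subgroup.centralizer ({t} : Set G) := ⟨_, rfl⟩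
  have hle : H ≤ (Subgroup.normalizer (Q : Set G)).normalCore := by
    intro u hu k
    have h1 := hR.ker_le_normalizer hP (hH.conj k) ht
    rw [hQ]
    apply h1
    exact ⟨u, hu, rfl⟩
  have hH1 : H ≠ ⊥ := by
    intro h
    have := hH.card
    rw [h, Subgroup.card_bot] at this
    omega
  have hcore : (Subgroup.normalizer (Q : Set G)).normalCore = ⊤ := by
    rcases (Subgroup.normalCore_normal (Subgroup.normalizer (Q : Set G))).eq_bot_or_eq_top with h | h
    · rw [h, le_bot_iff] at hle
      exact absurd hle hH1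
    · exact h
  have hnorm : Subgroup.normalizer (Q : Set G) = ⊤ := by
    apply top_le_iff.1
    rw [← hcore]
    exact Subgroup.normalCore_le _
  have hQn : Q.Normal := Subgroup.normalizer_eq_top_iff.1 hnorm
  have ht1 : t ≠ 1 := by
    rintro rfl
    rw [orderOf_one] at ht
    omega
  rcases hQn.eq_bot_or_eq_top with h | h
  · have : t ∈ Q := by
      rw [hQ, Subgroup.mem_centralizer_singleton_iff]
    rw [h, Subgroup.mem_bot] at this
    exact ht1 this
  · have h1 := hR.card t ht
    rw [← hQ, h, Subgroup.card_top] at h1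
    obtain ⟨x, y, hxy⟩ : ∃ x y : Ω, x ≠ y := by
      have : 1 < Fintype.card Ω := by omega
      obtain ⟨x, y, hxy⟩ := Fintype.exists_pair_of_one_lt_card this
      exact ⟨x, y, hxy⟩
    have h2 := card_eq hP x y hxy
    rw [Nat.card_eq_fintype_card (α := Ω), h1] at h2
    have hepos : 0 < Nat.card ↥(stabilizer G x ⊓ stabilizer G y) := Nat.card_pos
    have : Fintype.card Ω * 2 ≤ Fintype.card Ω * (Fintype.card Ω - 1) *
        Nat.card ↥(stabilizer G x ⊓ stabilizer G y) := by
      calc Fintype.card Ω * 2 ≤ Fintype.card Ω * (Fintype.card Ω - 1) :=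
            Nat.mul_le_mul_left _ (by omega)
        _ = Fintype.card Ω * (Fintype.card Ω - 1) * 1 := (Nat.mul_one _).symm
        _ ≤ _ := Nat.mul_le_mul_left _ hepos
    omega

end RegCent

namespace OddSimple

variable (hS : OddSimple G Ω) {H : Subgroup G} {a : Ω} (hH : IsKer H a)

include hS hH in
/-- even degree: at most `e` classes missing the kernel is impossible when `4 e + 2 ≤ n` -/
theorem false_of_even (hn : Fintype.card Ω % 2 = 0) {b : Ω} (hab : a ≠ b)
    (hcls : Nat.card {C : ConjClasses G // ∀ g : G, ConjClasses.mk g = C → g ∉ H} ≤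
      Nat.card ↥(stabilizer G a ⊓ stabilizer G b))
    (h4 : 4 * Nat.card ↥(stabilizer G a ⊓ stabilizer G b) + 2 ≤ Fintype.card Ω) : False := by
  have hP := hS.pre
  have hR : RegCent G Ω :=
    { elem := fun t ht => hS.centralizer_elementary hH hn hab hcls h4 ht
      card := fun t ht => hS.card_centralizer_invol_even hn hab ht
      free := fun t ht c => hS.invol_no_fix hn ht c
      conj := fun s t hs ht => hS.invol_conj hs ht }
  have h5 := card_eq hP a b hab
  rw [Nat.card_eq_fintype_card (α := Ω)] at h5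
  have h2 : 2 ∣ Fintype.card G := by
    rw [← Nat.card_eq_fintype_card, h5]
    exact Dvd.dvd.mul_right (Dvd.dvd.mul_right (Nat.dvd_of_mod_eq_zero hn) _) _
  haveI : Fact (Nat.Prime 2) := ⟨Nat.prime_two⟩
  obtain ⟨t, ht⟩ := exists_prime_orderOf_dvd_card 2 h2
  haveI := hS.simple
  exact hR.false_of_simple hP hH ht

end OddSimple

end Cfsg.Agent.Lib.H4.Feit
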