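import Cfsg.Agent.Lib.H4.Feit.ZasInd
import Cfsg.Agent.Lib.H4.Feit.ClassCount
import Cfsg.Agent.Lib.H4.Feit.OddFinal

/-!
# Simple Zassenhaus groups with two point stabilizers of odd order and abelian kernel: the
exceptional characters restrict irreducibly, and few classes miss the kernel
-/

set_option autoImplicit false
set_option linter.unusedSectionVars false

namespace Cfsg.Agent.Lib.H4.Feit

open MulAction Cfsg Cfsg.Agent.Lib.H2.Zass Cfsg.Agent.Lib.H4.Zas Cfsg.Agent.Lib.L0
  Cfsg.Agent.Lib.L0.FrobTI Cfsg.Agent.Lib.H8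
open scoped Classical ComplexConjugate

variable {G Ω : Type*} [Group G] [MulAction G Ω] [Fintype G] [Fintype Ω]

namespace OddSimple

variable (hS : OddSimple G Ω) {H : Subgroup G} {a : Ω} (hH : IsKer H a)

include hS hH in
/-- the number of relevant characters -/
theorem card_rel_mul {b : Ω} (hab : a ≠ b) (habel : ∀ x ∈ H, ∀ y ∈ H, x * y = y * x) :
    Nat.card (RelT H) * Nat.card ↥(stabilizer G a ⊓ stabilizer G b) + 2 = Fintype.card Ω := by
  have h1 := card_K_eq (hS.frobTI hH) habel
  rw [hS.index_eq hH hab] at h1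
  have h2 := hH.card
  omega

include hS hH in
theorem main_count {b : Ω} (hab : a ≠ b) (habel : ∀ x ∈ H, ∀ y ∈ H, x * y = y * x)
    (hlt : 2 * Nat.card ↥(stabilizer G a ⊓ stabilizer G b) + 2 < Fintype.card Ω) :
    ∃ (D : Exc H) (ζ₀ : RelT H), classInner (D.Psi ζ₀) (D.f ζ₀ : G → ℂ) = 0 ∧
      Nat.card {C : ConjClasses G // ∀ g : G, ConjClasses.mk g = C → g ∉ H} ≤
        Nat.card ↥(stabilizer G a ⊓ stabilizer G b) := by
  have hP := hS.pre
  have hF := hS.frobTI hH
  obtain ⟨D⟩ := exc_nonempty hF habel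
  have hcount := hS.card_rel_mul hH hab habel
  have hidx := hS.index_eq hH hab
  set e := Nat.card ↥(stabilizer G a ⊓ stabilizer G b) with he
  set t := Nat.card (RelT H) with ht
  have hepos : 0 < e := Nat.card_pos
  have ht3 : 3 ≤ t := by
    by_contra hcon
    push Not at hcon
    have : t * e ≤ 2 * e := Nat.mul_le_mul_right _ (by omega)
    omega
  have hne : Nonempty (RelT H) := by
    rw [← Finite.card_pos_iff]
    omega
  obtain ⟨ζ₀⟩ := hne
  obtain ⟨c, hc⟩ := genChar_classInner_irr_int (D.Psi_genChar ζ₀) (D.f ζ₀).2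
  obtain ⟨εz, hεz, hεzc⟩ := D.exists_epsZ
  have hle := D.card_irr_le hF habel (hS.indHyp hH) (by omega) ζ₀ c εz hc hεzc
  rw [hidx, Cfsg.Agent.Lib.H24.card_irr_eq_card_conjClasses, card_conjClasses_eq (K := H)] at hle
  have hmeet := card_classes_meeting hF habel
  have hmiss := hS.classes_ge hH hab hlt
  rw [← ht] at hmeet hle
  rw [← he] at hmiss
  set m₁ := Nat.card {C : ConjClasses G // ∃ g ∈ H, ConjClasses.mk g = C}
  set m₂ := Nat.card {C : ConjClasses G // ∀ g : G, ConjClasses.mk g = C → g ∉ H}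
  push_cast at hle
  have hm₁ : (t : ℤ) + 1 ≤ m₁ := by exact_mod_cast hmeet
  have hm₂ : (e : ℤ) ≤ m₂ := by exact_mod_cast hmiss
  have ht3' : (3 : ℤ) ≤ t := by exact_mod_cast ht3
  have hc0 : c = 0 := by
    by_contra hc0
    have h1 : (t : ℤ) * c ^ 2 ≤ 2 * εz * c := by linarith
    have h2 : 2 * εz * c ≤ 2 * |c| := by
      rcases hεz with h | h
      · rw [h]
        have := le_abs_self c
        linarith
      · rw [h]
        have := neg_abs_le c
        linarith
    have h3 : |c| ≤ c ^ 2 := by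
      have h4 : 1 ≤ |c| := Int.one_le_abs hc0
      have h5 : c ^ 2 = |c| * |c| := by rw [abs_mul_abs_self c]; ring
      rw [h5]
      nlinarith
    have h6 : 0 < c ^ 2 := by positivity
    nlinarith
  refine ⟨D, ζ₀, by rw [hc, hc0]; simp, ?_⟩
  rw [hc0] at hle
  have : (m₂ : ℤ) ≤ e := by linarith
  exact_mod_cast this

end OddSimple

end Cfsg.Agent.Lib.H4.Feit
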