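import Mathlib
import Cfsg.Agent.Lib.L0.CharInd

/-!
# Functions induced from a point stabilizer of a transitive action
-/

set_option autoImplicit false
set_option linter.unusedSectionVars false

namespace Cfsg.Agent.Lib.H4.Feit

open MulAction Cfsg Cfsg.Agent.Lib.L0
open scoped Classical

variable {G Ω : Type*} [Group G] [MulAction G Ω] [Fintype G] [Fintype Ω]

theorem extendByZero_conj_mem (N : Subgroup G) (θ : N → ℂ) (hθ : Cfsg.IsClassFunction N θ)
    {m : G} (hm : m ∈ N) (y : G) :
    Cfsg.extendByZero N θ (m⁻¹ * y * m) = Cfsg.extendByZero N θ y := by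
  by_cases hy : y ∈ N
  · have h1 : m⁻¹ * y * m ∈ N := N.mul_mem (N.mul_mem (N.inv_mem hm) hy) hm
    rw [extendByZero_apply_of_mem N θ h1, extendByZero_apply_of_mem N θ hy]
    have := hθ ⟨y, hy⟩ ⟨m⁻¹, N.inv_mem hm⟩
    rw [← this]
    congr 1
    apply Subtype.ext
    simp
  · have h1 : m⁻¹ * y * m ∉ N := by
      intro h
      apply hy
      have : y = m * (m⁻¹ * y * m) * m⁻¹ := by group
      rw [this]
      exact N.mul_mem (N.mul_mem hm h) (N.inv_mem hm)
    rw [extendByZero_apply_not_mem N θ h1, extendByZero_apply_not_mem N θ hy]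

/-- the value of a function induced from a point stabilizer as a sum over the points -/
theorem indFun_stabilizer_apply (a : Ω) (gc : Ω → G) (hgc : ∀ c : Ω, gc c • a = c)
    (θ : stabilizer G a → ℂ) (hθ : Cfsg.IsClassFunction (stabilizer G a) θ) (x : G) :
    Cfsg.indFun (stabilizer G a) θ x =
      ∑ c : Ω, Cfsg.extendByZero (stabilizer G a) θ ((gc c)⁻¹ * x * gc c) := by
  rw [indFun_apply]
  let e : G ≃ Ω × stabilizer G a :=
    { toFun := fun g => (g • a, ⟨(gc (g • a))⁻¹ * g, by
        rw [mem_stabilizer_iff, mul_smul, inv_smul_eq_iff, hgc]⟩)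
      invFun := fun q => gc q.1 * q.2
      left_inv := by
        intro g
        simp
      right_inv := by
        rintro ⟨c, m⟩
        have h : (gc c * (m : G)) • a = c := by
          rw [mul_smul]
          have : (m : G) • a = a := m.2
          rw [this, hgc]
        apply Prod.ext
        · exact h
        · apply Subtype.ext
          simp only
          rw [h]
          group }
  rw [← Equiv.sum_comp e.symm, Fintype.sum_prod_type]
  have h1 : ∀ c : Ω, ∑ m : stabilizer G a,
      Cfsg.extendByZero (stabilizer G a) θ ((e.symm (c, m))⁻¹ * x * e.symm (c, m)) =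
      (Nat.card (stabilizer G a) : ℂ) *
        Cfsg.extendByZero (stabilizer G a) θ ((gc c)⁻¹ * x * gc c) := by
    intro c
    have h2 : ∀ m : stabilizer G a,
        Cfsg.extendByZero (stabilizer G a) θ ((e.symm (c, m))⁻¹ * x * e.symm (c, m)) =
          Cfsg.extendByZero (stabilizer G a) θ ((gc c)⁻¹ * x * gc c) := by
      intro m
      have h3 : (e.symm (c, m))⁻¹ * x * e.symm (c, m) =
          (m : G)⁻¹ * ((gc c)⁻¹ * x * gc c) * (m : G) := by
        change (gc c * (m : G))⁻¹ * x * (gc c * (m : G)) = _
        group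
      rw [h3]
      exact extendByZero_conj_mem _ θ hθ m.2 _
    rw [Finset.sum_congr rfl fun m _ => h2 m, Finset.sum_const, Finset.card_univ,
      nsmul_eq_mul, Nat.card_eq_fintype_card]
  rw [Finset.sum_congr rfl fun c _ => h1 c, ← Finset.mul_sum, ← mul_assoc, inv_mul_cancel₀,
    one_mul]
  exact_mod_cast (Nat.card_pos (α := stabilizer G a)).ne'

end Cfsg.Agent.Lib.H4.Feit
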