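import Mathlib
import Cfsg.Agent.Lib.H4.Feit.Kernel
import Cfsg.Agent.Lib.H4.Feit.IndStab
import Cfsg.Agent.Lib.L0.CharLinear
import Cfsg.Agent.Lib.L0.CharIndChar
import Cfsg.Agent.Lib.H24.CharLinearMul

/-!
# Simple Zassenhaus groups with two point stabilizers of odd order: the characters induced from
the linear characters of a point stabilizer
-/

set_option autoImplicit false
set_option linter.unusedSectionVars false

namespace Cfsg.Agent.Lib.H4.Feit

open MulAction Cfsg Cfsg.Agent.Lib.H2.Zass Cfsg.Agent.Lib.H4.Zas Cfsg.Agent.Lib.L0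
open scoped Classical ComplexConjugate

variable {G Ω : Type*} [Group G] [MulAction G Ω] [Fintype G] [Fintype Ω]

namespace OddSimple

variable (hS : OddSimple G Ω)

include hS in
theorem conj_of_move {a c : Ω} (hca : c ≠ a) {g x : G} (hg : g • a = c) (hxa : x • a = a)
    (hxc : x • c = c) : ∃ m : G, m • a = a ∧ g⁻¹ * x * g = m⁻¹ * x⁻¹ * m := by
  have hP := hS.pre
  have hgc : g⁻¹ • c = a := by rw [inv_smul_eq_iff, hg]
  have hd : a ≠ g⁻¹ • a := by
    intro h
    apply hca
    have := congrArg (g • ·) h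
    simp only [smul_inv_smul] at this
    rw [← hg, this]
  obtain ⟨m, hma, hmd⟩ := hP.two a (g⁻¹ • a) a c hd (Ne.symm hca)
  refine ⟨m, hma, ?_⟩
  have hwa : (m * g⁻¹) • a = c := by rw [mul_smul, hmd]
  have hwc : (m * g⁻¹) • c = a := by rw [mul_smul, hgc, hma]
  have := hS.swap_inv (Ne.symm hca) hwa hwc hxa hxc
  calc g⁻¹ * x * g = m⁻¹ * (m * g⁻¹ * x * (m * g⁻¹)⁻¹) * m := by group
    _ = m⁻¹ * x⁻¹ * m := by rw [this]

variable {H : Subgroup G} {a : Ω} (hH : IsKer H a)
  (μ : stabilizer G a → ℂ) (hμ : Cfsg.IsCharacter (stabilizer G a) μ) (hμ1 : μ 1 = 1)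

include hμ hμ1 in
theorem mu_mul (x y : stabilizer G a) : μ (x * y) = μ x * μ y := linear_char_mul hμ hμ1 x y

include hμ hμ1 in
theorem mu_pow (x : stabilizer G a) (k : ℕ) : μ (x ^ k) = μ x ^ k := by
  induction k with
  | zero => rw [pow_zero, pow_zero, hμ1]
  | succ k ih => rw [pow_succ, pow_succ, mu_mul μ hμ hμ1, ih]

include hμ hμ1 in
theorem mu_mul_conj (x : stabilizer G a) : μ x * conj (μ x) = 1 := by
  have := Cfsg.Agent.Lib.H24.hom_mul_conj (linearCharHom hμ hμ1) x
  rw [linearCharHom_apply] at this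
  exact this

include hS hμ hμ1 in
/-- the value of the extended function at a conjugate moving the base point -/
theorem ext_conj_move {c : Ω} (hca : c ≠ a) {g : G} (hg : g • a = c) (x : stabilizer G a) :
    Cfsg.extendByZero (stabilizer G a) μ (g⁻¹ * (x : G) * g) =
      if (x : G) • c = c then conj (μ x) else 0 := by
  have hxa : (x : G) • a = a := x.2
  split_ifs with hxc
  · obtain ⟨m, hma, hm⟩ := hS.conj_of_move hca hg hxa hxc
    rw [hm]
    have hmN : m ∈ stabilizer G a := hma
    rw [extendByZero_conj_mem _ μ (isClassFunction_of_isCharacter hμ) hmN,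
      extendByZero_apply_of_mem _ μ ((stabilizer G a).inv_mem x.2)]
    have := isCharacter_apply_inv hμ x
    rw [← this]
    rfl
  · apply extendByZero_apply_not_mem
    intro h
    rw [mem_stabilizer_iff, mul_smul, mul_smul, hg, inv_smul_eq_iff, hg] at h
    exact hxc h

include hS hH hμ hμ1 in
/-- a non-trivial linear character trivial on the kernel: the sum of its squares over a two point
stabilizer vanishes -/
theorem sum_sq_eq_zero (hμH : ∀ u : stabilizer G a, (u : G) ∈ H → μ u = 1)
    (hμne : μ ≠ fun _ => 1) {c : Ω} (hca : c ≠ a) :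
    ∑ x : stabilizer G a, (if (x : G) • c = c then μ x ^ 2 else 0) = 0 := by
  have hP := hS.pre
  obtain ⟨x₀, hx₀⟩ : ∃ x₀ : stabilizer G a, μ x₀ ≠ 1 := by
    by_contra hcon
    push Not at hcon
    exact hμne (funext hcon)
  obtain ⟨u, hu, h₀, h₀a, h₀c, hx₀eq⟩ := exists_K_mul hP a c (Ne.symm hca) x₀.2
  rw [← hH.eq_K hP] at hu
  set y₀ : stabilizer G a := ⟨h₀, h₀a⟩ with hy₀
  have hy₀ne : μ y₀ ≠ 1 := by
    intro h
    apply hx₀
    have : x₀ = ⟨u, hH.le hu⟩ * y₀ := Subtype.ext hx₀eq
    rw [this, mu_mul μ hμ hμ1, hμH _ hu, h, one_mul]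
  -- odd order
  obtain ⟨k, hk⟩ := hS.odd a c (Ne.symm hca)
  have hpow : h₀ ^ (2 * k + 1) = 1 := by
    have hmem : h₀ ∈ stabilizer G a ⊓ stabilizer G c := by
      rw [Subgroup.mem_inf]
      exact ⟨h₀a, h₀c⟩
    have := pow_card_eq_one' (G := ↥(stabilizer G a ⊓ stabilizer G c)) (x := ⟨h₀, hmem⟩)
    rw [hk] at this
    exact congrArg Subtype.val this
  have hpow' : μ y₀ ^ (2 * k + 1) = 1 := by
    rw [← mu_pow μ hμ hμ1]
    have : y₀ ^ (2 * k + 1) = 1 := Subtype.ext hpow
    rw [this, hμ1]
  have hsq : μ y₀ ^ 2 ≠ 1 := by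
    intro h
    apply hy₀ne
    rw [pow_succ, pow_mul, h, one_pow, one_mul] at hpow'
    exact hpow'
  -- the sum is invariant under multiplication by `μ y₀ ^ 2`
  set S := ∑ x : stabilizer G a, (if (x : G) • c = c then μ x ^ 2 else 0) with hSdef
  have h1 : μ y₀ ^ 2 * S = S := by
    rw [hSdef, Finset.mul_sum]
    have hF : ∀ x : stabilizer G a, μ y₀ ^ 2 * (if (x : G) • c = c then μ x ^ 2 else 0) =
        (fun z : stabilizer G a => if (z : G) • c = c then μ z ^ 2 else 0) (y₀ * x) := by
      intro x
      have hiff : ((y₀ * x : stabilizer G a) : G) • c = c ↔ (x : G) • c = c := by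
        change (h₀ * (x : G)) • c = c ↔ _
        rw [mul_smul]
        constructor
        · intro h
          have := congrArg (h₀⁻¹ • ·) h
          simp only [inv_smul_smul] at this
          rw [this, inv_smul_eq_iff, h₀c]
        · intro h
          rw [h, h₀c]
      by_cases hx : (x : G) • c = c
      · simp only [if_pos hx, if_pos (hiff.2 hx)]
        rw [mu_mul μ hμ hμ1, mul_pow]
      · simp only [if_neg hx, if_neg (fun h => hx (hiff.1 h)), mul_zero]
    exact Fintype.sum_equiv (Equiv.mulLeft y₀) _ _ fun x => hF x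
  have h2 : (μ y₀ ^ 2 - 1) * S = 0 := by rw [sub_mul, h1, one_mul, sub_self]
  rcases mul_eq_zero.1 h2 with h | h
  · exact absurd (sub_eq_zero.1 h) hsq
  · exact h

include hS hH hμ hμ1 in
/-- the character induced from a non-trivial linear character of the point stabilizer with the
kernel in its kernel is irreducible and equal to `1` on the kernel -/
theorem ind_irr (hμH : ∀ u : stabilizer G a, (u : G) ∈ H → μ u = 1)
    (hμne : μ ≠ fun _ => 1) :
    Cfsg.IsIrrCharacter G (Cfsg.indFun (stabilizer G a) μ) ∧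
      ∀ u ∈ H, u ≠ 1 → Cfsg.indFun (stabilizer G a) μ u = 1 := by
  have hP := hS.pre
  have htrans : ∀ c : Ω, ∃ g : G, g • a = c := by
    intro c
    by_cases h : a = c
    · exact ⟨1, by rw [one_smul, h]⟩
    · obtain ⟨g, hg, -⟩ := hP.two a c c a h (Ne.symm h)
      exact ⟨g, hg⟩
  choose gc hgc using htrans
  have hcf := isClassFunction_of_isCharacter hμ
  have hformula := indFun_stabilizer_apply a gc hgc μ hcf
  constructor
  · apply isIrrCharacter_of_classInner_self_eq_one (isCharacter_indFun _ hμ)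
    rw [frobenius_reciprocity _ μ _ (indFun_isClassFunction _ μ)]
    unfold Cfsg.classInner
    have h1 : ∀ x : stabilizer G a, μ x * conj (Cfsg.indFun (stabilizer G a) μ (x : G)) =
        ∑ c : Ω, μ x * conj (Cfsg.extendByZero (stabilizer G a) μ ((gc c)⁻¹ * (x : G) * gc c)) := by
      intro x
      rw [hformula, map_sum, Finset.mul_sum]
    rw [Finset.sum_congr rfl fun x _ => h1 x, Finset.sum_comm]
    have h2 : ∀ c : Ω, ∑ x : stabilizer G a,
        μ x * conj (Cfsg.extendByZero (stabilizer G a) μ ((gc c)⁻¹ * (x : G) * gc c)) =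
        if c = a then (Nat.card (stabilizer G a) : ℂ) else 0 := by
      intro c
      split_ifs with hc
      · subst hc
        have hga : gc c ∈ stabilizer G c := hgc c
        have h3 : ∀ x : stabilizer G c,
            μ x * conj (Cfsg.extendByZero (stabilizer G c) μ ((gc c)⁻¹ * (x : G) * gc c)) = 1 := by
          intro x
          rw [extendByZero_conj_mem _ μ hcf hga, extendByZero_apply_mem]
          exact mu_mul_conj μ hμ hμ1 x
        rw [Finset.sum_congr rfl fun x _ => h3 x, Finset.sum_const, Finset.card_univ,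
          Nat.card_eq_fintype_card]
        simp
      · have h3 : ∀ x : stabilizer G a,
            μ x * conj (Cfsg.extendByZero (stabilizer G a) μ ((gc c)⁻¹ * (x : G) * gc c)) =
              if (x : G) • c = c then μ x ^ 2 else 0 := by
          intro x
          rw [hS.ext_conj_move μ hμ hμ1 hc (hgc c) x]
          split_ifs with hx
          · rw [Complex.conj_conj, pow_two]
          · rw [map_zero, mul_zero]
        rw [Finset.sum_congr rfl fun x _ => h3 x]
        exact hS.sum_sq_eq_zero hH μ hμ hμ1 hμH hμne hc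
    rw [Finset.sum_congr rfl fun c _ => h2 c, Finset.sum_ite_eq' Finset.univ a,
      if_pos (Finset.mem_univ _)]
    apply inv_mul_cancel₀
    exact_mod_cast (Nat.card_pos (α := stabilizer G a)).ne'
  · intro u hu hu1
    rw [hformula]
    have hua : u ∈ stabilizer G a := hH.le hu
    have h2 : ∀ c : Ω, Cfsg.extendByZero (stabilizer G a) μ ((gc c)⁻¹ * u * gc c) =
        if c = a then 1 else 0 := by
      intro c
      split_ifs with hc
      · subst hc
        have hga : gc c ∈ stabilizer G c := hgc c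
        rw [extendByZero_conj_mem _ μ hcf hga, extendByZero_apply_of_mem _ μ hua]
        exact hμH ⟨u, hua⟩ hu
      · apply extendByZero_apply_not_mem
        intro h
        rw [mem_stabilizer_iff, mul_smul, mul_smul, hgc, inv_smul_eq_iff, hgc] at h
        exact hc (hH.fix u hu hu1 c h)
    rw [Finset.sum_congr rfl fun c _ => h2 c, Finset.sum_ite_eq' Finset.univ a,
      if_pos (Finset.mem_univ _)]

end OddSimple

end Cfsg.Agent.Lib.H4.Feit
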