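import Cfsg.Agent.Lib.H8.ExcPackageC

/-!
# Exceptional characters for an abelian T.I. subgroup with Frobenius normalizer: the class
function `Ψ`, without parity hypotheses
-/

set_option autoImplicit false
set_option linter.unusedSectionVars false

namespace Cfsg.Agent.Lib.H4.Feit

open Cfsg Cfsg.Agent.Lib.L0 Cfsg.Agent.Lib.L0.FrobTI Cfsg.Agent.Lib.H8
open scoped ComplexConjugate Classical

variable {G : Type*} [Group G] [Fintype G]

/-- the exceptional characters attached to an abelian T.I. subgroup -/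
structure Exc (K : Subgroup G) [Fintype (nz K)] where
  ε : ℂ
  f : RelT K → IrrCharacter G
  hε : ε = 1 ∨ ε = -1
  hinj : Function.Injective f
  hf : ∀ χ ξ : RelT K, indFun (nz K) ((χ.1 : nz K → ℂ) - (ξ.1 : nz K → ℂ)) =
    ε • ((f χ : G → ℂ) - (f ξ : G → ℂ))

variable {K : Subgroup G} [Fintype (nz K)]

theorem exc_nonempty (h : FrobTI K) (hab : ∀ a ∈ K, ∀ b ∈ K, a * b = b * a) : Nonempty (Exc K) := by
  obtain ⟨ε, f, hε, hinj, hf⟩ := exists_exceptional' h hab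
  exact ⟨⟨ε, f, hε, hinj, hf⟩⟩

namespace Exc

variable (D : Exc K)

theorem eps_sq : D.ε * D.ε = 1 := by
  rcases D.hε with h1 | h1 <;> rw [h1] <;> norm_num

theorem eps_conj : conj D.ε = D.ε := by
  rcases D.hε with h1 | h1 <;> rw [h1] <;> simp

theorem eps_ne : D.ε ≠ 0 := by
  rcases D.hε with h1 | h1 <;> rw [h1] <;> norm_num

theorem f_ne {ζ ξ : RelT K} (hne : ζ ≠ ξ) : (D.f ζ : G → ℂ) ≠ (D.f ξ : G → ℂ) := by
  intro heq
  exact hne (D.hinj (Subtype.ext heq))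

theorem f_inner (ζ ξ : RelT K) :
    classInner (D.f ζ : G → ℂ) (D.f ξ : G → ℂ) = if ζ = ξ then 1 else 0 := by
  split_ifs with h
  · subst h
    exact irr_classInner_self (D.f ζ).2
  · exact irr_classInner_ne (D.f ζ).2 (D.f ξ).2 (D.f_ne h)

/-- `Φ_ζ = Ind (π - ζ)` -/
noncomputable def Phi (_D : Exc K) (ζ : RelT K) : G → ℂ := indFun (nz K) (alphaFun ζ)

/-- `Ψ = Φ_ζ + ε X_ζ` -/
noncomputable def Psi (ζ : RelT K) : G → ℂ := D.Phi ζ + D.ε • (D.f ζ : G → ℂ)

theorem Phi_sub (ζ ξ : RelT K) :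
    D.Phi ζ - D.Phi ξ = D.ε • ((D.f ξ : G → ℂ) - (D.f ζ : G → ℂ)) := by
  unfold Phi
  rw [← indFun_sub, ← D.hf ξ ζ]
  congr 1
  unfold alphaFun
  ring

/-- `Ψ` does not depend on `ζ` -/
theorem Psi_eq (ζ ξ : RelT K) : D.Psi ζ = D.Psi ξ := by
  unfold Psi
  have h1 := D.Phi_sub ζ ξ
  have h2 : D.Phi ζ = D.Phi ξ + D.ε • ((D.f ξ : G → ℂ) - (D.f ζ : G → ℂ)) := by
    rw [← h1]; ring
  rw [h2, smul_sub]
  abel

theorem Phi_genChar (ζ : RelT K) : IsGeneralizedCharacter G (D.Phi ζ) := by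
  unfold Phi alphaFun
  rw [indFun_sub]
  exact ⟨_, _, isCharacter_indFun _ (piFun_isCharacter K),
    isCharacter_indFun _ (isCharacter_of_irr ζ.1.2), rfl⟩

theorem Psi_genChar (ζ : RelT K) : IsGeneralizedCharacter G (D.Psi ζ) := by
  unfold Psi
  refine isGeneralizedCharacter_add (D.Phi_genChar ζ) ?_
  rcases D.hε with h1 | h1
  · rw [h1, one_smul]
    exact isGeneralizedCharacter_of_isCharacter (isCharacter_of_irr (D.f ζ).2)
  · rw [h1, neg_one_smul]
    exact isGeneralizedCharacter_neg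
      (isGeneralizedCharacter_of_isCharacter (isCharacter_of_irr (D.f ζ).2))

/-- Frobenius reciprocity for `Φ_ζ` -/
theorem Phi_inner (ζ : RelT K) (ψ : G → ℂ) (hψ : IsClassFunction G ψ) :
    classInner (D.Phi ζ) ψ = classInner (piFun K) (fun x : nz K => ψ x) -
      classInner (ζ.1 : nz K → ℂ) (fun x : nz K => ψ x) := by
  unfold Phi
  rw [Cfsg.Agent.Lib.L0.frobenius_reciprocity _ _ _ hψ]
  unfold alphaFun
  rw [classInner_sub_left]

theorem Phi_norm (h : FrobTI K) (hab : ∀ a ∈ K, ∀ b ∈ K, a * b = b * a) (ζ : RelT K) :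
    classInner (D.Phi ζ) (D.Phi ζ) = ((K.subgroupOf (nz K)).index : ℂ) + 1 := by
  unfold Phi
  rw [classInner_indFun_TI (K : Set G) h.hTI _ _ (alphaFun_isClassFunction ζ)
    (alphaFun_vanish h ζ) (alphaFun_vanish h ζ) (alphaFun_one h hab ζ)]
  exact alphaFun_inner_self h ζ

theorem Phi_one (ζ : RelT K) : classInner (D.Phi ζ) (1 : G → ℂ) = 1 := by
  unfold Phi
  have h1cf : IsClassFunction G (1 : G → ℂ) := fun _ _ => rfl
  rw [Cfsg.Agent.Lib.L0.frobenius_reciprocity _ _ _ h1cf]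
  exact alphaFun_inner_one ζ

/-- inner products of `Φ_ζ` with the induced differences -/
theorem Phi_ind (h : FrobTI K) (hab : ∀ a ∈ K, ∀ b ∈ K, a * b = b * a) (ζ ξ η : RelT K) :
    classInner (D.Phi ζ) (indFun (nz K) ((ξ.1 : nz K → ℂ) - (η.1 : nz K → ℂ)))
      = -(if ζ = ξ then 1 else 0) + (if ζ = η then 1 else 0) := by
  obtain ⟨d1, d2, d3⟩ := h.diff_props hab ξ.1.2 ξ.2 η.1.2 η.2
  unfold Phi
  rw [classInner_indFun_TI (K : Set G) h.hTI _ _ d1 (alphaFun_vanish h ζ) d2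
    (alphaFun_one h hab ζ), classInner_sub_right, alphaFun_inner_rel h ζ ξ,
    alphaFun_inner_rel h ζ η]
  ring

/-- the exceptional characters are not trivial -/
theorem f_ne_one (ht : 2 ≤ Nat.card (RelT K)) (ζ : RelT K) : (D.f ζ : G → ℂ) ≠ 1 := by
  intro h1
  have hirr1 : IsIrrCharacter G (1 : G → ℂ) := Cfsg.Agent.Lib.L0.isIrrCharacter_one
  have h1cf : IsClassFunction G (1 : G → ℂ) := fun _ _ => rfl
  obtain ⟨ξ, hξ⟩ : ∃ ξ : RelT K, ξ ≠ ζ := by
    by_contra hcon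
    push Not at hcon
    have : Nat.card (RelT K) ≤ 1 := by
      haveI : Subsingleton (RelT K) := ⟨fun a b => (hcon a).trans (hcon b).symm⟩
      exact Finite.card_le_one_iff_subsingleton.2 inferInstance
    omega
  have h2 : classInner (indFun (nz K) ((ζ.1 : nz K → ℂ) - (ξ.1 : nz K → ℂ))) (1 : G → ℂ)
      = 0 := by
    rw [Cfsg.Agent.Lib.L0.frobenius_reciprocity _ _ _ h1cf]
    have : (fun x : nz K => (1 : G → ℂ) x) = (1 : nz K → ℂ) := rfl
    rw [this, classInner_sub_left,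
      irr_classInner_ne ζ.1.2 Cfsg.Agent.Lib.L0.isIrrCharacter_one (rel_ne_one ζ.2),
      irr_classInner_ne ξ.1.2 Cfsg.Agent.Lib.L0.isIrrCharacter_one (rel_ne_one ξ.2)]
    ring
  rw [D.hf ζ ξ, classInner_smul_left, classInner_sub_left, h1, irr_classInner_self hirr1,
    irr_classInner_ne (D.f ξ).2 hirr1 (fun h3 => D.f_ne hξ (h3.trans h1.symm))] at h2
  simp at h2
  exact D.eps_ne h2

theorem Psi_one (ht : 2 ≤ Nat.card (RelT K)) (ζ : RelT K) :
    classInner (D.Psi ζ) (1 : G → ℂ) = 1 := by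
  have hirr1 : IsIrrCharacter G (1 : G → ℂ) := Cfsg.Agent.Lib.L0.isIrrCharacter_one
  unfold Psi
  rw [classInner_add_left, D.Phi_one ζ, classInner_smul_left,
    irr_classInner_ne (D.f ζ).2 hirr1 (D.f_ne_one ht ζ)]
  ring

/-- the inner product of `Ψ` with an exceptional character does not depend on the character -/
theorem Psi_f (h : FrobTI K) (hab : ∀ a ∈ K, ∀ b ∈ K, a * b = b * a) (ζ₀ ζ : RelT K) :
    classInner (D.Psi ζ₀) (D.f ζ : G → ℂ) = classInner (D.Psi ζ₀) (D.f ζ₀ : G → ℂ) := by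
  have hfdiff : (D.f ζ : G → ℂ) - (D.f ζ₀ : G → ℂ)
      = D.ε • indFun (nz K) ((ζ.1 : nz K → ℂ) - (ζ₀.1 : nz K → ℂ)) := by
    rw [D.hf ζ ζ₀, smul_smul, D.eps_sq, one_smul]
  have h1 : classInner (D.Psi ζ₀) ((D.f ζ : G → ℂ) - (D.f ζ₀ : G → ℂ)) = 0 := by
    unfold Psi
    rw [classInner_add_left, classInner_smul_left]
    have h2 : classInner (D.Phi ζ₀) ((D.f ζ : G → ℂ) - (D.f ζ₀ : G → ℂ))
        = D.ε * (-(if ζ₀ = ζ then 1 else 0) + (if ζ₀ = ζ₀ then 1 else 0)) := by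
      rw [hfdiff, classInner_smul_right, D.eps_conj, D.Phi_ind h hab ζ₀ ζ ζ₀]
    rw [h2, classInner_sub_right, D.f_inner, D.f_inner, if_pos rfl]
    ring
  rw [classInner_sub_right] at h1
  linear_combination h1

/-- the norm of `Ψ` -/
theorem Psi_norm (h : FrobTI K) (hab : ∀ a ∈ K, ∀ b ∈ K, a * b = b * a) (ζ₀ : RelT K)
    (c : ℤ) (hc : classInner (D.Psi ζ₀) (D.f ζ₀ : G → ℂ) = c) :
    classInner (D.Psi ζ₀) (D.Psi ζ₀) =
      ((K.subgroupOf (nz K)).index : ℂ) + 2 * D.ε * c := by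
  have h1 : classInner (D.Phi ζ₀) (D.f ζ₀ : G → ℂ) = (c : ℂ) - D.ε := by
    have := hc
    unfold Psi at this
    rw [classInner_add_left, classInner_smul_left, irr_classInner_self (D.f ζ₀).2] at this
    linear_combination this
  have h2 : classInner (D.f ζ₀ : G → ℂ) (D.Phi ζ₀) = (c : ℂ) - D.ε := by
    rw [← classInner_conj_symm, h1, map_sub, map_intCast, D.eps_conj]
  conv_lhs => unfold Psi
  rw [classInner_add_left, classInner_add_right, classInner_add_right, classInner_smul_left,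
    classInner_smul_left, classInner_smul_right, classInner_smul_right, D.Phi_norm h hab ζ₀, h1, h2,
    irr_classInner_self (D.f ζ₀).2, D.eps_conj]
  linear_combination (-1 : ℂ) * D.eps_sq

/-- the exceptional characters have the same degree -/
theorem f_one (h : FrobTI K) (hab : ∀ a ∈ K, ∀ b ∈ K, a * b = b * a) (ζ ζ₀ : RelT K) :
    (D.f ζ : G → ℂ) 1 = (D.f ζ₀ : G → ℂ) 1 := by
  obtain ⟨d1, d2, d3⟩ := h.diff_props hab ζ.1.2 ζ.2 ζ₀.1.2 ζ₀.2
  have h1 := congrFun (D.hf ζ ζ₀) 1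
  rw [indFun_apply_one, d3, mul_zero] at h1
  simp only [Pi.smul_apply, Pi.sub_apply, smul_eq_mul] at h1
  have h2 : (D.f ζ : G → ℂ) 1 - (D.f ζ₀ : G → ℂ) 1 = 0 :=
    (mul_eq_zero.mp h1.symm).resolve_left D.eps_ne
  linear_combination h2

end Exc

end Cfsg.Agent.Lib.H4.Feit
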