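import Cfsg.Agent.Lib.H4.Feit.Pack

/-!
# Characters of the normalizer of an abelian T.I. subgroup: degrees in terms of the inner
products with `π` and the relevant characters
-/

set_option autoImplicit false
set_option linter.unusedSectionVars false

namespace Cfsg.Agent.Lib.H4.Feit

open Cfsg Cfsg.Agent.Lib.L0 Cfsg.Agent.Lib.L0.FrobTI Cfsg.Agent.Lib.H8
open scoped ComplexConjugate Classical

variable {G : Type*} [Group G] [Fintype G] {K : Subgroup G} [Fintype (nz K)]

/-- the inner product of `π` with an irreducible character constant on `K` -/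
theorem pi_inner_nonrel {η : nz K → ℂ} (hη : IsIrrCharacter (nz K) η) (hnr : ¬ Rel K η) :
    classInner (piFun K) η = η 1 := by
  obtain ⟨n, -, hn⟩ := Cfsg.Agent.Lib.H24.irr_one_eq ⟨η, hη⟩
  simp only at hn
  unfold classInner
  have h1 : ∀ x : nz K, piFun K x * conj (η x)
      = if (x : G) ∈ K then ((K.subgroupOf (nz K)).index : ℂ) * (n : ℂ) else 0 := by
    intro x
    rw [piFun_apply]
    split_ifs with hx
    · rw [not_rel_apply hnr x hx, hn, Complex.conj_natCast]
    · simp
  rw [Finset.sum_congr rfl fun x _ => h1 x, sum_ite_mem, card_nz_eq, hn]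
  have he : ((K.subgroupOf (nz K)).index : ℂ) ≠ 0 := by
    have : (K.subgroupOf (nz K)).index ≠ 0 := Subgroup.index_ne_zero_of_finite
    exact_mod_cast this
  have ha : (Nat.card K : ℂ) ≠ 0 := by exact_mod_cast (Nat.card_pos (α := K)).ne'
  push_cast
  field_simp

variable [Fintype (IrrCharacter (nz K))] [Fintype (RelT K)]

/-- sums over the relevant characters -/
theorem sum_rel_eq (g : IrrCharacter (nz K) → ℂ) :
    ∑ η ∈ Finset.univ.filter (fun η : IrrCharacter (nz K) => Rel K (η : nz K → ℂ)), g η =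
      ∑ ζ : RelT K, g ζ.1 := by
  rw [Finset.sum_subtype (Finset.univ.filter
    (fun η : IrrCharacter (nz K) => Rel K (η : nz K → ℂ)))
    (p := fun η : IrrCharacter (nz K) => ∃ k : nz K, (k : G) ∈ K ∧
      (η : nz K → ℂ) k ≠ (η : nz K → ℂ) 1)]
  intro η
  simp only [Finset.mem_filter, Finset.mem_univ, true_and]
  rfl

/-- the degree of a character of the normalizer -/
theorem char_expand (h : FrobTI K) (hab : ∀ a ∈ K, ∀ b ∈ K, a * b = b * a) (F : nz K → ℂ)
    (hF : IsCharacter (nz K) F) :
    F 1 = classInner (piFun K) F + ((K.subgroupOf (nz K)).index : ℂ) *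
      ∑ ζ : RelT K, classInner (ζ.1 : nz K → ℂ) F := by
  have hcf := isClassFunction_of_isCharacter hF
  have hexp := Cfsg.Agent.Lib.H24.classFunction_expansion F hcf
  choose c hc using fun η : IrrCharacter (nz K) => classInner_char_irr_nat hF η.2
  have hc' : ∀ η : IrrCharacter (nz K), classInner (η : nz K → ℂ) F = c η := by
    intro η
    rw [← classInner_conj_symm, hc, Complex.conj_natCast]
  have h1 : F 1 = ∑ η : IrrCharacter (nz K), (c η : ℂ) * (η : nz K → ℂ) 1 := by
    have := congrFun hexp 1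
    rw [Finset.sum_apply] at this
    rw [this]
    refine Finset.sum_congr rfl fun η _ => ?_
    rw [Pi.smul_apply, smul_eq_mul, hc]
  have h2 : classInner (piFun K) F =
      ∑ η : IrrCharacter (nz K), (c η : ℂ) * classInner (piFun K) (η : nz K → ℂ) := by
    conv_lhs => rw [hexp]
    rw [classInner_sum_right]
    refine Finset.sum_congr rfl fun η _ => ?_
    rw [classInner_smul_right, hc, Complex.conj_natCast]
  rw [h1, h2, ← Finset.sum_filter_add_sum_filter_not Finset.univ
    (fun η : IrrCharacter (nz K) => Rel K (η : nz K → ℂ)),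
    ← Finset.sum_filter_add_sum_filter_not Finset.univ
    (fun η : IrrCharacter (nz K) => Rel K (η : nz K → ℂ))
    (f := fun η : IrrCharacter (nz K) => (c η : ℂ) * classInner (piFun K) (η : nz K → ℂ))]
  have h3 : ∑ η ∈ Finset.univ.filter (fun η : IrrCharacter (nz K) => Rel K (η : nz K → ℂ)),
      (c η : ℂ) * classInner (piFun K) (η : nz K → ℂ) = 0 := by
    apply Finset.sum_eq_zero
    intro η hη
    rw [piFun_inner_rel h η.2 (Finset.mem_filter.mp hη).2, mul_zero]
  have h4 : ∑ η ∈ Finset.univ.filter (fun η : IrrCharacter (nz K) => ¬ Rel K (η : nz K → ℂ)),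
      (c η : ℂ) * classInner (piFun K) (η : nz K → ℂ) =
      ∑ η ∈ Finset.univ.filter (fun η : IrrCharacter (nz K) => ¬ Rel K (η : nz K → ℂ)),
      (c η : ℂ) * (η : nz K → ℂ) 1 := by
    refine Finset.sum_congr rfl fun η hη => ?_
    rw [pi_inner_nonrel η.2 (Finset.mem_filter.mp hη).2]
  have h5 : ∑ η ∈ Finset.univ.filter (fun η : IrrCharacter (nz K) => Rel K (η : nz K → ℂ)),
      (c η : ℂ) * (η : nz K → ℂ) 1 = ((K.subgroupOf (nz K)).index : ℂ) *
      ∑ ζ : RelT K, classInner (ζ.1 : nz K → ℂ) F := by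
    rw [sum_rel_eq (fun η => (c η : ℂ) * (η : nz K → ℂ) 1), Finset.mul_sum]
    refine Finset.sum_congr rfl fun ζ _ => ?_
    rw [h.rel_degree hab ζ.1.2 ζ.2, hc']
    ring
  rw [h3, h4, h5]
  ring

/-- a character of the normalizer not orthogonal to `π` has a constituent constant on `K` -/
theorem exists_nonrel (h : FrobTI K) (F : nz K → ℂ) (hF : IsCharacter (nz K) F)
    (hp : classInner (piFun K) F ≠ 0) :
    ∃ η : IrrCharacter (nz K), ¬ Rel K (η : nz K → ℂ) ∧ classInner F (η : nz K → ℂ) ≠ 0 := by
  have hcf := isClassFunction_of_isCharacter hF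
  have hexp := Cfsg.Agent.Lib.H24.classFunction_expansion F hcf
  by_contra hcon
  push Not at hcon
  apply hp
  conv_lhs => rw [hexp]
  rw [classInner_sum_right]
  apply Finset.sum_eq_zero
  intro η _
  rw [classInner_smul_right]
  by_cases hη : Rel K (η : nz K → ℂ)
  · rw [piFun_inner_rel h η.2 hη, mul_zero]
  · rw [hcon η hη, map_zero, zero_mul]

end Cfsg.Agent.Lib.H4.Feit
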