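import Cfsg.Agent.Lib.H4.Feit.ZasTI

/-!
# Simple Zassenhaus groups with two point stabilizers of odd order: the permutation character and
the characters induced from the linear characters of the point stabilizer
-/

set_option autoImplicit false
set_option linter.unusedSectionVars false

namespace Cfsg.Agent.Lib.H4.Feit

open MulAction Cfsg Cfsg.Agent.Lib.H2.Zass Cfsg.Agent.Lib.H4.Zas Cfsg.Agent.Lib.L0
  Cfsg.Agent.Lib.L0.FrobTI Cfsg.Agent.Lib.H8
open scoped Classical ComplexConjugate

variable {G Ω : Type*} [Group G] [MulAction G Ω] [Fintype G] [Fintype Ω]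

/-- the permutation character -/
noncomputable def permChar (G Ω : Type*) [Group G] [MulAction G Ω] [Fintype G] [Fintype Ω] :
    G → ℂ := fun g => (fx (Ω := Ω) g : ℂ)

theorem permChar_eq_ind (hP : Pre G Ω) (a : Ω) :
    permChar G Ω = indFun (stabilizer G a) (fun _ => 1) := by
  have : IsPretransitive G Ω := by
    refine ⟨fun x y => ?_⟩
    by_cases hxy : x = y
    · exact ⟨1, by rw [one_smul, hxy]⟩
    · obtain ⟨g, hg, -⟩ := hP.two x y y x hxy (Ne.symm hxy)
      exact ⟨g, hg⟩
  rw [← fixedPoints_eq_indFun Ω a]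
  funext g
  unfold permChar fx
  congr 1
  rw [Nat.card_eq_fintype_card, ← Fintype.card_subtype]
  rfl

theorem permChar_isCharacter (hP : Pre G Ω) : IsCharacter G (permChar G Ω) := by
  have hn := three_le_card hP
  obtain ⟨a⟩ : Nonempty Ω := Fintype.card_pos_iff.1 (by omega)
  rw [permChar_eq_ind hP a]
  exact isCharacter_indFun _ (isCharacter_of_irr Cfsg.Agent.Lib.L0.isIrrCharacter_one)

theorem permChar_inner_self (hP : Pre G Ω) : classInner (permChar G Ω) (permChar G Ω) = 2 := by
  unfold classInner permChar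
  have h1 : ∀ g : G, ((fx (Ω := Ω) g : ℂ)) * conj ((fx (Ω := Ω) g : ℂ)) =
      ((fx (Ω := Ω) g * (fx (Ω := Ω) g - 1) + fx (Ω := Ω) g : ℕ) : ℂ) := by
    intro g
    rw [Complex.conj_natCast, ← Nat.cast_mul]
    congr 1
    rcases Nat.eq_zero_or_pos (fx (Ω := Ω) g) with h | h
    · rw [h]
    · obtain ⟨m, hm⟩ : ∃ m, fx (Ω := Ω) g = m + 1 := ⟨fx (Ω := Ω) g - 1, by omega⟩
      rw [hm]
      simp only [Nat.add_sub_cancel]
      ring
  rw [Finset.sum_congr rfl fun g _ => h1 g, ← Nat.cast_sum, Finset.sum_add_distrib,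
    sum_fx_pairs_eq hP, sum_fx_eq hP]
  have hG : (Nat.card G : ℂ) ≠ 0 := by exact_mod_cast (Nat.card_pos (α := G)).ne'
  push_cast
  field_simp
  ring

theorem permChar_inner_one (hP : Pre G Ω) : classInner (permChar G Ω) (1 : G → ℂ) = 1 := by
  unfold classInner permChar
  have h1 : ∀ g : G, ((fx (Ω := Ω) g : ℂ)) * conj ((1 : G → ℂ) g) = ((fx (Ω := Ω) g : ℕ) : ℂ) := by
    intro g
    simp
  rw [Finset.sum_congr rfl fun g _ => h1 g, ← Nat.cast_sum, sum_fx_eq hP]
  have hG : (Nat.card G : ℂ) ≠ 0 := by exact_mod_cast (Nat.card_pos (α := G)).ne'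
  field_simp

/-- the non-trivial constituent of the permutation character is irreducible -/
theorem permChar_sub_one_irr (hP : Pre G Ω) : IsIrrCharacter G (permChar G Ω - 1) := by
  have hirr1 : IsIrrCharacter G (1 : G → ℂ) := Cfsg.Agent.Lib.L0.isIrrCharacter_one
  have hgen : IsGeneralizedCharacter G (permChar G Ω - 1) :=
    isGeneralizedCharacter_sub (isGeneralizedCharacter_of_isCharacter (permChar_isCharacter hP))
      (isGeneralizedCharacter_of_isCharacter (isCharacter_of_irr hirr1))
  have h2 : classInner (1 : G → ℂ) (permChar G Ω) = 1 := by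
    rw [← classInner_conj_symm, permChar_inner_one hP, map_one]
  have hnorm : classInner (permChar G Ω - 1) (permChar G Ω - 1) = 1 := by
    rw [classInner_sub_left, classInner_sub_right, classInner_sub_right, permChar_inner_self hP,
      permChar_inner_one hP, h2, irr_classInner_self hirr1]
    ring
  rcases genChar_norm_one hgen hnorm with h | h
  · exact h
  · exfalso
    obtain ⟨n, hn, hn'⟩ := Cfsg.Agent.Lib.H24.irr_one_eq ⟨_, h⟩
    simp only [Pi.neg_apply, Pi.sub_apply, Pi.one_apply] at hn'
    unfold permChar at hn'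
    rw [fx_one] at hn'
    have h3 := three_le_card hP
    have : ((Fintype.card Ω : ℤ) : ℂ) = ((1 - n : ℤ) : ℂ) := by
      push_cast
      linear_combination -hn'
    have h4 : (Fintype.card Ω : ℤ) = 1 - n := by exact_mod_cast this
    omega

namespace OddSimple

variable (hS : OddSimple G Ω) {H : Subgroup G} {a : Ω} (hH : IsKer H a)

include hS hH in
/-- transport of the induction statements to the normalizer of the kernel -/
theorem ind_nz : indFun (nz H) (fun _ => 1) = permChar G Ω ∧
    ∀ μ : nz H → ℂ, IsCharacter (nz H) μ → μ 1 = 1 → (∀ u : nz H, (u : G) ∈ H → μ u = 1) →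
      μ ≠ (fun _ => 1) → IsIrrCharacter G (indFun (nz H) μ) := by
  have key : ∀ N : Subgroup G, N = stabilizer G a →
      indFun N (fun _ => 1) = permChar G Ω ∧
      ∀ μ : N → ℂ, IsCharacter N μ → μ 1 = 1 → (∀ u : N, (u : G) ∈ H → μ u = 1) →
        μ ≠ (fun _ => 1) → IsIrrCharacter G (indFun N μ) := by
    rintro N rfl
    refine ⟨(permChar_eq_ind hS.pre a).symm, ?_⟩
    intro μ hμ hμ1 hμH hne
    exact (hS.ind_irr hH μ hμ hμ1 hμH hne).1
  exact key (nz H) (hS.nz_eq hH)

include hS hH in
/-- the hypotheses on the induced characters -/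
theorem indHyp : IndHyp H (permChar G Ω - 1) where
  deg := by
    simp only [Pi.sub_apply, Pi.one_apply]
    unfold permChar
    rw [fx_one, ← hH.card]
    push_cast
    ring
  cases := by
    intro η hη ψ hne
    have hP := hS.pre
    have hirr1 : IsIrrCharacter G (1 : G → ℂ) := Cfsg.Agent.Lib.L0.isIrrCharacter_one
    have hψcf := isClassFunction_of_isCharacter (isCharacter_of_irr ψ.2)
    have h1 : classInner (indFun (nz H) (η : nz H → ℂ)) (ψ : G → ℂ) ≠ 0 := by
      rw [Cfsg.Agent.Lib.L0.frobenius_reciprocity _ _ _ hψcf, ← classInner_conj_symm]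
      intro h
      apply hne
      have := congrArg (starRingEnd ℂ) h
      rwa [Complex.conj_conj, map_zero] at this
    obtain ⟨hind1, hind⟩ := hS.ind_nz hH
    by_cases hη1 : (η : nz H → ℂ) = fun _ => 1
    · rw [hη1, hind1] at h1
      have h2 : permChar G Ω = 1 + (permChar G Ω - 1) := by ring
      rw [h2, classInner_add_left] at h1
      by_contra hcon
      push Not at hcon
      apply h1
      rw [irr_classInner_ne hirr1 ψ.2 (fun h => hcon.1 h.symm),
        irr_classInner_ne (permChar_sub_one_irr hP) ψ.2 (fun h => hcon.2.1 h.symm)]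
      ring
    · right
      right
      have hlin := hS.nonrel_linear hH η hη
      have hirr := hind (η : nz H → ℂ) (isCharacter_of_irr η.2) hlin
        (fun u hu => by rw [not_rel_apply hη u hu, hlin]) hη1
      have heq : (ψ : G → ℂ) = indFun (nz H) (η : nz H → ℂ) := by
        by_contra hcon
        exact h1 (irr_classInner_ne hirr ψ.2 (fun h => hcon h.symm))
      rw [heq, indFun_apply_one, hlin, mul_one]
      have h3 : (nz H).index = Fintype.card Ω := by
        have h4 := (nz H).card_mul_index
        have h5 := card_stabilizer_mul hP a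
        have h6 : Nat.card (nz H) = Nat.card (stabilizer G a) := by rw [hS.nz_eq hH]
        rw [← h5, h6] at h4
        exact Nat.eq_of_mul_eq_mul_left Nat.card_pos h4
      rw [h3, ← hH.card]
      push_cast
      ring

end OddSimple

end Cfsg.Agent.Lib.H4.Feit
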