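import Cfsg.Agent.Lib.H4.Feit.CountIrr
import Cfsg.Agent.Lib.H4.Feit.IndLin
import Cfsg.Agent.Lib.L0.CharPerm
import Cfsg.Agent.Lib.H24.CharAbelian
import Cfsg.Agent.S0878

/-!
# Simple Zassenhaus groups with two point stabilizers of odd order: the kernel of a point
stabilizer is a T.I. subgroup with Frobenius normalizer; the characters induced from the
characters of the point stabilizer trivial on the kernel
-/

set_option autoImplicit false
set_option linter.unusedSectionVars false

namespace Cfsg.Agent.Lib.H4.Feit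

open MulAction Cfsg Cfsg.Agent.Lib.H2.Zass Cfsg.Agent.Lib.H4.Zas Cfsg.Agent.Lib.L0
  Cfsg.Agent.Lib.L0.FrobTI Cfsg.Agent.Lib.H8
open scoped Classical ComplexConjugate

variable {G Ω : Type*} [Group G] [MulAction G Ω] [Fintype G] [Fintype Ω]

namespace OddSimple

variable (hS : OddSimple G Ω) {H : Subgroup G} {a : Ω} (hH : IsKer H a)

include hS hH in
theorem nz_eq : nz H = stabilizer G a :=
  (Cfsg.Agent.S0878.result hS.zas a H hH.le hH.card hH.fix).2

include hS hH in
theorem mem_nz_iff {g : G} : g ∈ nz H ↔ g • a = a := by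
  rw [hS.nz_eq hH]
  exact mem_stabilizer_iff

include hS hH in
/-- an element of the point stabilizer outside the kernel fixes a second point -/
theorem exists_fix_of_not_mem {g : G} (hga : g • a = a) (hg : g ∉ H) :
    ∃ c : Ω, c ≠ a ∧ g • c = c := by
  by_contra hcon
  push Not at hcon
  apply hg
  apply hH.mem_of_fix_only hS.pre hga
  intro c hc
  by_contra hca
  exact hcon c hca hc

include hS hH in
theorem frobTI : FrobTI H where
  hTI := by
    intro g hg k hk hgk
    rw [show Subgroup.normalizer (H : Set G) = stabilizer G a from hS.nz_eq hH] at hg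
    exact (Cfsg.Agent.S0878.result hS.zas a H hH.le hH.card hH.fix).1 g hg k hk hgk
  hC := by
    intro k hk hk1 g hg
    have hP := hS.pre
    rw [Subgroup.mem_centralizer_singleton_iff] at hg
    have hka : k • a = a := hH.le hk
    have hga : g • a = a := by
      apply hH.fix k hk hk1
      rw [← mul_smul, ← hg, mul_smul, hka]
    by_contra hgH
    obtain ⟨c, hca, hgc⟩ := hS.exists_fix_of_not_mem hH hga hgH
    have hkc : k • c ≠ c := fun h => hca (hH.fix k hk hk1 c h)
    have hkca : k • c ≠ a := by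
      intro h
      apply hca
      exact smul_left_cancel k (h.trans hka.symm)
    have hfix : g • (k • c) = k • c := by
      rw [← mul_smul, hg, mul_smul, hgc]
    have := hP.three g a c (k • c) (Ne.symm hca) (Ne.symm hkc) (Ne.symm hkca) hga hgc hfix
    apply hgH
    rw [this]
    exact H.one_mem

include hS hH in
theorem lt_nz : H < nz H := by
  rw [hS.nz_eq hH]
  refine lt_of_le_of_ne hH.le ?_
  intro heq
  obtain ⟨g, hg1, c, d, hcd, hgc, hgd⟩ := hS.pre.fix
  -- move c to a
  have hP := hS.pre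
  obtain ⟨b, hab⟩ : ∃ b : Ω, a ≠ b := by
    by_cases h : c = a
    · exact ⟨d, by rw [← h]; exact hcd⟩
    · exact ⟨c, Ne.symm h⟩
  obtain ⟨x, hxc, hxd⟩ := hP.two c d a b hcd hab
  have h1 : (x * g * x⁻¹) • a = a := by
    rw [mul_smul, mul_smul, ← hxc, inv_smul_smul, hgc]
  have h2 : (x * g * x⁻¹) • b = b := by
    rw [mul_smul, mul_smul, ← hxd, inv_smul_smul, hgd]
  have h3 : x * g * x⁻¹ ∈ H := by
    rw [heq]
    exact h1
  have h4 : x * g * x⁻¹ ≠ 1 := by
    intro h
    apply hg1
    have : g = x⁻¹ * (x * g * x⁻¹) * x := by group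
    rw [this, h]
    group
  exact hab (hH.fix _ h3 h4 b h2).symm

include hS hH in
/-- the index of the kernel in the point stabilizer -/
theorem index_eq {b : Ω} (hab : a ≠ b) :
    (H.subgroupOf (nz H)).index = Nat.card ↥(stabilizer G a ⊓ stabilizer G b) := by
  have hP := hS.pre
  have h1 := card_nz_eq H
  have h2 : Nat.card (nz H) = Nat.card (stabilizer G a) := by rw [hS.nz_eq hH]
  have h3 := card_stabilizer_mul hP a
  have h4 := card_eq hP a b hab
  rw [Nat.card_eq_fintype_card (α := Ω)] at h4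
  have h5 := hH.card
  have hn := three_le_card hP
  rw [h2] at h1
  rw [h1, h4] at h3
  have h6 : Fintype.card Ω - 1 = Nat.card H := by omega
  rw [h6] at h3
  have hHpos : 0 < Nat.card H := Nat.card_pos
  have h7 : (H.subgroupOf (nz H)).index * (Nat.card H * Fintype.card Ω) =
      Nat.card ↥(stabilizer G a ⊓ stabilizer G b) * (Nat.card H * Fintype.card Ω) := by
    rw [← mul_assoc, h3]
    ring
  exact Nat.eq_of_mul_eq_mul_right (Nat.mul_pos hHpos (by omega)) h7

include hS hH in
/-- commutators of the point stabilizer lie in the kernel -/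
theorem comm_mem {x y : G} (hx : x • a = a) (hy : y • a = a) : (y * x)⁻¹ * (x * y) ∈ H := by
  have hP := hS.pre
  obtain ⟨b, hab⟩ : ∃ b : Ω, a ≠ b := by
    have hn := three_le_card hP
    obtain ⟨b, hb⟩ := Fintype.exists_ne_of_one_lt_card (by omega : 1 < Fintype.card Ω) a
    exact ⟨b, Ne.symm hb⟩
  obtain ⟨u, hu, h, hha, hhb, rfl⟩ := exists_K_mul hP a b hab hx
  obtain ⟨v, hv, k, hka, hkb, rfl⟩ := exists_K_mul hP a b hab hy
  rw [← hH.eq_K hP] at hu hv
  have hcomm : h * k = k * h := hS.comm_stab hab hha hhb hka hkb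
  have hnorm : ∀ w ∈ H, ∀ z : G, z • a = a → z * w * z⁻¹ ∈ H := by
    intro w hw z hz
    have hzN : z ∈ Subgroup.normalizer (H : Set G) := by
      rw [show Subgroup.normalizer (H : Set G) = stabilizer G a from hS.nz_eq hH]
      exact hz
    exact (Subgroup.mem_normalizer_iff.1 hzN w).1 hw
  have hnorm' : ∀ w ∈ H, ∀ z : G, z • a = a → z⁻¹ * w * z ∈ H := by
    intro w hw z hz
    have := hnorm w hw z⁻¹ (by rw [inv_smul_eq_iff, hz])
    rwa [inv_inv] at this
  have hhk : (h * k) • a = a := by rw [mul_smul, hka, hha]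
  -- (v k u h)⁻¹ (u h v k) = (hk)⁻¹ (k u⁻¹ k⁻¹) v⁻¹ u (h v h⁻¹) (hk)
  have e1 : (v * k * (u * h))⁻¹ * (u * h * (v * k)) =
      (h * k)⁻¹ * ((k * u * k⁻¹)⁻¹ * v⁻¹ * u * (h * v * h⁻¹)) * (h * k) := by
    have : (v * k * (u * h))⁻¹ = (k * h)⁻¹ * (k * u * k⁻¹)⁻¹ * v⁻¹ := by group
    rw [this, ← hcomm]
    group
  rw [e1]
  apply hnorm' _ _ _ hhk
  exact H.mul_mem (H.mul_mem (H.mul_mem (H.inv_mem (hnorm u hu k hka)) (H.inv_mem hv)) hu)
    (hnorm v hv h hha)

include hS hH in
/-- the irreducible characters of the point stabilizer trivial on the kernel are linear -/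
theorem nonrel_linear (η : IrrCharacter (nz H)) (hη : ¬ Rel H (η : nz H → ℂ)) :
    (η : nz H → ℂ) 1 = 1 := by
  obtain ⟨ψ, hψ⟩ := Cfsg.Agent.Lib.H24.exists_deflation η (H.subgroupOf (nz H))
    (fun n hn => not_rel_apply hη n (Subgroup.mem_subgroupOf.mp hn))
  have hcomm : ∀ x y : nz H ⧸ H.subgroupOf (nz H), x * y = y * x := by
    intro x y
    induction x using QuotientGroup.induction_on with
    | H x =>
      induction y using QuotientGroup.induction_on with
      | H y =>
        rw [← QuotientGroup.mk_mul, ← QuotientGroup.mk_mul]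
        symm
        rw [QuotientGroup.eq, Subgroup.mem_subgroupOf]
        have hx : (x : G) • a = a := (hS.mem_nz_iff hH).1 x.2
        have hy : (y : G) • a = a := (hS.mem_nz_iff hH).1 y.2
        exact hS.comm_mem hH hx hy
  have h1 := Cfsg.Agent.Lib.H24.irr_apply_one_of_comm hcomm ψ
  rw [← hψ 1]
  exact h1

end OddSimple

end Cfsg.Agent.Lib.H4.Feit
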